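import Cfsg.Agent.Lib.TensorSympWreath.Growth
import Cfsg.Agent.Lib.AutPSp.SympBasis
import Cfsg.Agent.Lib.Sp.InvolutionClasses

/-!
Removing a self-adjoint factor from a coefficient.
-/

set_option autoImplicit false
set_option linter.unusedSectionVars false
set_option linter.unusedSimpArgs false

namespace CfsgLib.TensorSympWreath

open Matrix
open scoped Kronecker
open CfsgLib.Maximal.TensorPower
open CfsgLib.TensorWreathMax (Idx In permM permM_mul_self exists_perp_eq_one)

attribute [-simp] Matrix.coe_units_inv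

variable {F : Type*} [Field F] {m N : ℕ}

theorem Am_mulVec (J : Matrix (Fin m) (Fin m) F) (a b x : Fin m → F) :
    Am J a b *ᵥ x = fm J a x • b - fm J b x • a := by
  simp [Am, sub_mulVec, vecMulVec_mulVec, ← fm_apply]

theorem Alt.conj_Am {J : Matrix (Fin m) (Fin m) F} (hJ : Alt J) {A : GL (Fin m) F}
    (hA : Iso J (A : Matrix (Fin m) (Fin m) F)) (a b : Fin m → F) :
    (A : Matrix (Fin m) (Fin m) F) * Am J a b * ((A⁻¹ : GL (Fin m) F) : Matrix (Fin m) (Fin m) F) =
      Am J ((A : Matrix (Fin m) (Fin m) F) *ᵥ a) ((A : Matrix (Fin m) (Fin m) F) *ᵥ b) := by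
  suffices h : (A : Matrix (Fin m) (Fin m) F) * Am J a b =
      Am J ((A : Matrix (Fin m) (Fin m) F) *ᵥ a) ((A : Matrix (Fin m) (Fin m) F) *ᵥ b) *
        (A : Matrix (Fin m) (Fin m) F) by
    rw [h, mul_assoc, Units.mul_inv, mul_one]
  refine Matrix.ext_of_mulVec_single fun i => ?_
  have hi : ∀ u w, fm J ((A : Matrix (Fin m) (Fin m) F) *ᵥ u) ((A : Matrix (Fin m) (Fin m) F) *ᵥ w) = fm J u w :=
    fun u w => by
      rw [fm_apply, fm_apply, ← vecMul_transpose, vecMul_vecMul, dotProduct_mulVec, vecMul_vecMul,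
        show _ = J from hA]
  simp only [← mulVec_mulVec, Am_mulVec, mulVec_sub, mulVec_smul, hi]

/-- Isotropic planes are transitively permuted by the slot isometries. -/
theorem Alt.exists_move_pair {J : Matrix (Fin m) (Fin m) F} (hJ : Alt J) {a b c d : Fin m → F}
    (ha : a ≠ 0) (hb : ∀ s : F, b ≠ s • a) (hab : fm J a b = 0)
    (hc : c ≠ 0) (hd : ∀ s : F, d ≠ s • c) (hcd : fm J c d = 0) :
    ∃ A : GL (Fin m) F, (A : Matrix (Fin m) (Fin m) F) *ᵥ a = c ∧ (A : Matrix (Fin m) (Fin m) F) *ᵥ b = d ∧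
      Iso J (A : Matrix (Fin m) (Fin m) F) := by
  have ind : ∀ {x y : Fin m → F}, x ≠ 0 → (∀ s : F, y ≠ s • x) → LinearIndependent F ![x, y] := fun hx hy =>
    (LinearIndependent.pair_iff' hx).2 fun s h => hy s h.symm
  obtain ⟨g, hg, hgx⟩ := CfsgLib.Sp.witt_family hJ.isAlt hJ.nondeg.1 ![a, b] ![c, d] (ind ha hb) (ind hc hd)
    (fun i j => by fin_cases i <;> fin_cases j <;> simp [hJ.self, hab, hcd, hJ.flip a b, hJ.flip c d])
  refine ⟨⟨LinearMap.toMatrix' g.toLinearMap, LinearMap.toMatrix' g.symm.toLinearMap, ?_, ?_⟩, ?_, ?_,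
    iso_toMatrix' (CfsgLib.Sp.transvGroup_le_isom hg)⟩
  · rw [← LinearMap.toMatrix'_comp, show g.toLinearMap ∘ₗ g.symm.toLinearMap = LinearMap.id from
      LinearMap.ext fun y => g.apply_symm_apply y, LinearMap.toMatrix'_id]
  · rw [← LinearMap.toMatrix'_comp, show g.symm.toLinearMap ∘ₗ g.toLinearMap = LinearMap.id from
      LinearMap.ext fun y => g.symm_apply_apply y, LinearMap.toMatrix'_id]
  · show LinearMap.toMatrix' g.toLinearMap *ᵥ a = c
    rw [LinearMap.toMatrix'_mulVec]; exact hgx 0
  · show LinearMap.toMatrix' g.toLinearMap *ᵥ b = d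
    rw [LinearMap.toMatrix'_mulVec]; exact hgx 1

/-- A symplectic basis, with the identity as the sum of the projections on its planes. -/
theorem Alt.exists_planes {J : Matrix (Fin m) (Fin m) F} (hJ : Alt J) :
    ∃ (r : ℕ) (e f : Fin r → Fin m → F), m = r + r ∧ (∀ i j, fm J (e i) (e j) = 0) ∧
      (∀ i j, fm J (f i) (f j) = 0) ∧ (∀ i j, fm J (e i) (f j) = if i = j then -1 else 0) ∧
      ∑ i, Am J (f i) (e i) = 1 := by
  obtain ⟨r, hr⟩ := CfsgLib.SpInvClasses.even_finrank (fm J) hJ.isAlt hJ.nondeg.1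
  obtain ⟨e, f, hee, hff, hef⟩ := CfsgLib.AutPSp.exists_symp_family (fm J) hJ.isAlt hJ.nondeg.1 r hr.ge
  have hm : m = r + r := by
    have := hr
    rw [Module.finrank_fintype_fun_eq_card, Fintype.card_fin] at this
    omega
  refine ⟨r, e, f, hm, hee, hff, hef, Matrix.ext_of_mulVec_single fun l => ?_⟩
  rw [one_mulVec, sum_mulVec]
  simp only [Am_mulVec]
  generalize (Pi.single l (1 : F) : Fin m → F) = u
  let Φ : (Fin m → F) →ₗ[F] (Fin r → F) × (Fin r → F) :=
    (LinearMap.pi fun i => fm J (e i)).prod (LinearMap.pi fun i => fm J (f i))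
  have hfe : ∀ i j, fm J (f i) (e j) = if j = i then 1 else 0 := fun i j => by
    rw [hJ.flip (e j) (f i), hef]; split_ifs <;> simp
  have hsur : Function.Surjective Φ := fun p => ⟨∑ j, (p.2 j • e j - p.1 j • f j), by
    refine Prod.ext (funext fun i => ?_) (funext fun i => ?_) <;>
      simp [Φ, map_sum, hee, hff, hef, hfe, Finset.sum_ite_eq]⟩
  have hinj : Function.Injective Φ :=
    (LinearMap.injective_iff_surjective_of_finrank_eq_finrank (by
      rw [Module.finrank_prod, Module.finrank_fintype_fun_eq_card, Module.finrank_fintype_fun_eq_card,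
        Fintype.card_fin, Fintype.card_fin, hm])).2 hsur
  exact hinj (Prod.ext (funext fun i => by simp [Φ, map_sum, hee, hff, hef, hfe, Finset.sum_ite_eq])
    (funext fun i => by simp [Φ, map_sum, hee, hff, hef, hfe, Finset.sum_ite_eq]))

/-- An anticommutator of two pairs is the projection on their span. -/
theorem anti_pair {J : Matrix (Fin m) (Fin m) F} (hJ : Alt J) {a b c d : Fin m → F} (hab : fm J a b = 0)
    (hcd : fm J c d = 0) (hac : fm J a c = -1) (hbd : fm J b d = -1) (had : fm J a d = 0) (hbc : fm J b c = 0) :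
    Am J a b * Am J c d + Am J c d * Am J a b = Am J c a + Am J d b := by
  refine Matrix.ext_of_mulVec_single fun l => ?_
  generalize (Pi.single l (1 : F) : Fin m → F) = x
  have hca : fm J c a = 1 := by rw [hJ.flip a c, hac, neg_neg]
  have hdb : fm J d b = 1 := by rw [hJ.flip b d, hbd, neg_neg]
  have hda : fm J d a = 0 := by rw [hJ.flip a d, had, neg_zero]
  have hcb : fm J c b = 0 := by rw [hJ.flip b c, hbc, neg_zero]
  simp only [add_mulVec, ← mulVec_mulVec, Am_mulVec, map_sub, map_smul, smul_eq_mul, hab, hcd, hac, hbd, had, hbc,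
    hca, hdb, hda, hcb]
  module

namespace Whole

variable {J : Matrix (Fin m) (Fin m) F} {M : Subgroup (GL (Idx m N) F)} (hW : Whole J M) {i : Fin N}
include hW

theorem coef_sum {ι : Type} (s : Finset ι) {Y : ι → Matrix (Idx m N) (Idx m N) F}
    (h : ∀ x ∈ s, Coef J M i (Y x)) : Coef J M i (∑ x ∈ s, Y x) :=
  Finset.sum_induction _ (Coef J M i) (fun _ _ => hW.coef_add) hW.coef_zero h

/-- Conjugating a single factor by a slot isometry. -/
theorem coef_move {S : Finset (Fin N)} (hiS : i ∉ S) {l : Fin N} (hl : l ∈ S) {A : GL (Fin m) F}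
    (hA : Iso J (A : Matrix (Fin m) (Fin m) F)) {os : Fin N → Matrix (Fin m) (Fin m) F}
    (hY : Coef J M i (pat S os)) : Coef J M i (pat S (Function.update os l
      ((A : Matrix (Fin m) (Fin m) F) * os l * ((A⁻¹ : GL (Fin m) F) : Matrix (Fin m) (Fin m) F)))) := by
  classical
  have hli : l ≠ i := fun h => hiS (h ▸ hl)
  obtain ⟨g, hg, hgA⟩ := hW.setting.slot_iso hW.alt hA l
  have hgi : ((g⁻¹ : GL (Idx m N) F) : Matrix (Idx m N) (Idx m N) F) =
      slot l ((A⁻¹ : GL (Fin m) F) : Matrix (Fin m) (Fin m) F) :=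
    Units.inv_eq_of_mul_eq_one_right (by rw [hgA, slot_mul, Units.mul_inv, slot_one])
  have h := hW.coef_conj hY hg (fun Z => by rw [hgA]; exact slot_comm hli _ _)
  convert h using 1
  rw [hgA, hgi]
  conv_lhs => rw [← Finset.insert_erase hl, pat_insert (Finset.notMem_erase _ _), Function.update_self]
  conv_rhs => rw [← Finset.insert_erase hl, pat_insert (Finset.notMem_erase _ _)]
  rw [pat_congr (S := S.erase l) (os' := os) (fun x hx => Function.update_of_ne (Finset.ne_of_mem_erase hx) _ _)]
  rw [← mul_assoc, slot_mul, mul_assoc _ (pat _ _), pat_comm_slot (Finset.notMem_erase _ _), ← mul_assoc, slot_mul]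

/-- A self-adjoint factor may be taken to be any isotropic pair. -/
theorem coef_am {S : Finset (Fin N)} (hiS : i ∉ S) {l : Fin N} (hl : l ∈ S)
    {os : Fin N → Matrix (Fin m) (Fin m) F} (hk : Kind J 1 (os l)) (hY : Coef J M i (pat S os))
    {c d : Fin m → F} (hc : c ≠ 0) (hd : ∀ s : F, d ≠ s • c) (hcd : fm J c d = 0) :
    Coef J M i (pat S (Function.update os l (Am J c d))) := by
  classical
  have hli : l ≠ i := fun h => hiS (h ▸ hl)
  have hJ := hW.alt
  obtain ⟨hO, hOO, -, hsk⟩ := hk
  haveI : NeZero m := ⟨fun h => hc (funext fun x => absurd x.isLt (by omega))⟩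
  have hsand : ∀ a, Xm J a * os l * Xm J a = 0 := fun a => by
    rw [Xm_mul_mul]
    have h1 : fm J (os l *ᵥ a) a = fm J a (os l *ᵥ a) := by
      rw [fm_apply, fm_apply]
      conv_lhs => rw [← vecMul_transpose, vecMul_vecMul, hsk, one_smul, ← vecMul_vecMul, ← dotProduct_mulVec]
    rw [hJ.flip a (os l *ᵥ a)] at h1
    have h0 : fm J a (os l *ᵥ a) = 0 :=
      (mul_eq_zero.1 (show (2 : F) * fm J a (os l *ᵥ a) = 0 by linear_combination -h1)).resolve_left hW.two
    rw [h0, zero_smul]
  obtain ⟨a, b, hab, hne⟩ : ∃ a b, fm J a b = 0 ∧ fm J b (os l *ᵥ a) • Am J a b ≠ 0 := by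
    by_contra hcon
    push Not at hcon
    obtain ⟨s, hs⟩ := scalar_of_sandwich hJ hsand fun a b hab => by rw [sandwich_pair hJ hsand]; exact hcon a b hab
    rw [hs, smul_mul_smul_comm, one_mul] at hOO
    rcases smul_eq_zero.1 hOO with h | h
    · exact hO (by rw [hs, mul_self_eq_zero.1 h, zero_smul])
    · exact one_ne_zero h
  obtain ⟨hcoef, hAm⟩ := smul_ne_zero_iff.1 hne
  have ha : a ≠ 0 := fun h => hAm (by ext p q; simp [Am, h, vecMulVec_apply])
  have hb : ∀ s : F, b ≠ s • a := fun s h => hAm (by ext p q; simp [Am, h, vecMulVec_apply, smul_vecMul])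
  -- the pair of sandwiches
  have h1 := hW.coef_pair hY hli hab
  have e : slot l (Xm J a) * pat S os * slot l (Xm J b) + slot l (Xm J b) * pat S os * slot l (Xm J a) =
      fm J b (os l *ᵥ a) • pat S (Function.update os l (Am J a b)) := by
    conv_lhs => rw [← Finset.insert_erase hl, pat_insert (Finset.notMem_erase _ _)]
    conv_rhs => rw [← Finset.insert_erase hl, pat_insert (Finset.notMem_erase _ _), Function.update_self]
    rw [pat_congr (S := S.erase l) (os := Function.update os l (Am J a b)) (os' := os)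
      (fun x hx => Function.update_of_ne (Finset.ne_of_mem_erase hx) _ _)]
    simp only [mul_assoc, pat_comm_slot (Finset.notMem_erase _ _)]
    simp only [← mul_assoc, slot_mul]
    rw [← add_mul, ← map_add, sandwich_pair hJ hsand, map_smul, smul_mul_assoc]
  rw [e] at h1
  have h2 := hW.coef_of_smul hcoef h1
  obtain ⟨A, hAa, hAb, hAi⟩ := hJ.exists_move_pair ha hb hab hc hd hcd
  have h3 := hW.coef_move hiS hl hAi h2
  rwa [Function.update_self, hJ.conj_Am hAi, hAa, hAb, Function.update_idem] at h3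

/-- A self-adjoint factor can be removed when the other factors are even in number. -/
theorem coef_drop (hm : 4 ≤ m) {S : Finset (Fin N)} (hiS : i ∉ S) {l : Fin N} (hl : l ∈ S)
    (hev : Even (S.erase l).card) {os : Fin N → Matrix (Fin m) (Fin m) F} {ss : Fin N → F}
    (hk : ∀ x ∈ S, Kind J (ss x) (os x)) (hkl : ss l = 1) (hY : Coef J M i (pat S os)) :
    ∃ w : Fin N → Fin m → F, (∀ x ∈ S.erase l, w x ≠ 0) ∧ Coef J M i (pat (S.erase l) fun x => Xm J (w x)) := by
  classical
  have hJ := hW.alt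
  obtain ⟨r, e, f, hr, hee, hff, hef, hsum⟩ := hJ.exists_planes
  set C := S.erase l with hC
  have hlC : l ∉ C := Finset.notMem_erase _ _
  have hCS : C ⊆ S := Finset.erase_subset _ _
  have hP : HasPair J := by
    let i₀ : Fin r := ⟨0, by omega⟩
    let i₁ : Fin r := ⟨1, by omega⟩
    refine ⟨e i₀, e i₁, fun h => ?_, hee _ _, fun s hs => ?_⟩
    · have h1 := hef i₀ i₀
      rw [h, map_zero, LinearMap.zero_apply, if_pos rfl] at h1
      exact neg_ne_zero.2 one_ne_zero h1.symm
    · have h1 := congrArg (fun u => fm J u (f i₁)) hs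
      simp [hef, i₀, i₁] at h1
  have hu : ∀ x, ∃ u : Fin m → F, x ∈ S → os x *ᵥ u ≠ 0 := fun x => by
    by_cases hx : x ∈ S
    swap
    · exact ⟨0, fun h => absurd h hx⟩
    by_contra hcon
    push Not at hcon
    exact (hk x hx).1 (Matrix.ext_of_mulVec_single fun k => by rw [(hcon _).2, zero_mulVec])
  choose u hu using hu
  set W : Matrix (Idx m N) (Idx m N) F := pat C fun x => Xm J (os x *ᵥ u x) with hWdef
  -- one anticommutator
  have hone : ∀ p q : Fin r, p ≠ q → Coef J M i (slot l (Am J (f p) (e p) + Am J (f q) (e q)) * W) := by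
    intro p q hpq
    have he0 : ∀ x, e x ≠ 0 := fun x h => by
      have h1 := hef x x
      rw [h, map_zero, LinearMap.zero_apply, if_pos rfl] at h1
      exact neg_ne_zero.2 one_ne_zero h1.symm
    have hf0 : ∀ x, f x ≠ 0 := fun x h => by
      have h1 := hef x x
      rw [h, map_zero, if_pos rfl] at h1
      exact neg_ne_zero.2 one_ne_zero h1.symm
    have hk1 : Kind J 1 (os l) := hkl ▸ hk l hl
    have hei : ∀ s : F, e q ≠ s • e p := fun s hs => by
      have h1 := congrArg (fun u => fm J u (f q)) hs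
      simp [hef, hpq] at h1
    have hfi : ∀ s : F, f q ≠ s • f p := fun s hs => by
      have h1 := congrArg (fun u => fm J (e q) u) hs
      simp [hef, Ne.symm hpq] at h1
    have hY1 := hW.coef_am hiS hl hk1 hY (he0 p) hei (hee p q)
    have hY2 := hW.coef_ad (C := C) (fun h => hiS (hCS h)) hCS u (hW.coef_am hiS hl hk1 hY (hf0 p) hfi (hff p q))
    have h := hW.coef_jordan hP hY1 hY2
    set P := Am J (e p) (e q)
    set R := Am J (f p) (f q)
    have e1 : pat S (Function.update os l P) = slot l P * pat C os := by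
      conv_lhs => rw [← Finset.insert_erase hl]
      rw [pat_insert hlC, Function.update_self,
        pat_congr (os' := os) fun x hx => Function.update_of_ne (fun h : x = l => hlC (h ▸ hx)) _ _]
    have e2 : pat S (fun x => if x ∈ C then Xm J (u x) * Function.update os l R x - Function.update os l R x * Xm J (u x)
        else Function.update os l R x) =
        slot l R * pat C (fun x => Xm J (u x) * os x - os x * Xm J (u x)) := by
      conv_lhs => rw [← Finset.insert_erase hl]
      rw [pat_insert hlC, if_neg hlC, Function.update_self]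
      congr 1
      exact pat_congr fun x hx => by rw [if_pos hx, Function.update_of_ne (fun h : x = l => hlC (h ▸ hx))]
    have hA : pat C os * pat C (fun x => Xm J (u x) * os x - os x * Xm J (u x)) = (∏ x ∈ C, ss x) • W := by
      rw [pat_mul, hWdef, ← pat_smul]
      refine pat_congr fun x hx => ?_
      have hx' := hk x (hCS hx)
      rw [mul_sub, ← mul_assoc (os x) (os x), hx'.2.1, zero_mul, sub_zero, ← mul_assoc, hx'.sandwich]
    have hB : pat C (fun x => Xm J (u x) * os x - os x * Xm J (u x)) * pat C os = (∏ x ∈ C, ss x) • W := by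
      rw [pat_mul, hWdef, show ∏ x ∈ C, ss x = ∏ x ∈ C, -ss x by rw [Finset.prod_neg, hev.neg_one_pow, one_mul],
        ← pat_smul]
      refine pat_congr fun x hx => ?_
      have hx' := hk x (hCS hx)
      rw [sub_mul, mul_assoc _ (os x) (os x), hx'.2.1, mul_zero, zero_sub, hx'.sandwich, neg_smul]
    rw [e1, e2, mul_assoc (slot l P), ← mul_assoc (pat C os), pat_comm_slot hlC, mul_assoc (slot l R), hA,
      mul_assoc (slot l R) (pat C _), ← mul_assoc (pat C _) (slot l P), pat_comm_slot hlC, mul_assoc (slot l P), hB,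
      ← mul_assoc, ← mul_assoc, slot_mul, slot_mul, ← add_mul, ← map_add, mul_smul_comm,
      anti_pair hJ (hee p q) (hff p q) (by rw [hef, if_pos rfl]) (by rw [hef, if_pos rfl]) (by rw [hef, if_neg hpq])
        (by rw [hef, if_neg (Ne.symm hpq)])] at h
    exact hW.coef_of_smul (Finset.prod_ne_zero_iff.2 fun x hx => (hk x (hCS hx)).ne_zero_sign) h
  -- the cyclic sum
  let σ : Equiv.Perm (Fin r) := finRotate r
  have hσ : ∀ p, σ p ≠ p := fun p h => by
    obtain ⟨n, rfl⟩ : ∃ n, r = n + 2 := ⟨r - 2, by omega⟩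
    simp only [σ, finRotate_succ_apply] at h
    exact one_ne_zero (add_eq_left.1 h)
  have h := hW.coef_sum Finset.univ fun p _ => hone p (σ p) (Ne.symm (hσ p))
  rw [← Finset.sum_mul, ← map_sum, Finset.sum_add_distrib, Equiv.sum_comp σ (fun p => Am J (f p) (e p)), hsum,
    ← two_smul F (1 : Matrix (Fin m) (Fin m) F), map_smul, slot_one, smul_mul_assoc, one_mul] at h
  exact ⟨fun x => os x *ᵥ u x, fun x hx => hu x (hCS hx), hW.coef_of_smul hW.two h⟩

end Whole

end CfsgLib.TensorSympWreath
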