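import Cfsg.Agent.Lib.TensorSympWreath.Maximal
import Cfsg.Agent.Lib.TensorSympPair.Main
import Cfsg.Agent.Lib.Maximal.TensorTools

/-!
An even tensor power of a symplectic form as a quadratic space, and its splittings into two factors.
-/

set_option autoImplicit false
set_option linter.unusedSectionVars false
set_option linter.unusedSimpArgs false
set_option linter.style.haveILetI false

namespace CfsgLib.TensorSympEven

open Matrix QuadraticMap
open scoped Kronecker commutatorElement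
open CfsgLib.Maximal.TensorPower
open CfsgLib.TensorWreathMax (Idx In split rx tvec permM)
open CfsgLib.TensorSympWreath
open CfsgLib.GeomClasses
open CfsgLib.GeomClasses.TensorMax (V2 M2)
open CfsgLib.Orth (O app)

attribute [-simp] Matrix.coe_units_inv

section
variable {F : Type*} [Field F]

/-- `Ω` inside the general linear group. -/
noncomputable def omega {ι : Type} [Fintype ι] [DecidableEq ι] (q : QuadraticForm F (ι → F)) : Subgroup (GL ι F) :=
  (commutator (O q)).map (O q).subtype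

/-- `Ω` follows a change of coordinates. -/
theorem omega_map {ι κ : Type} [Fintype ι] [DecidableEq ι] [Fintype κ] [DecidableEq κ]
    (q : QuadraticForm F (ι → F)) (L : (κ → F) ≃ₗ[F] (ι → F)) (Φ : GL κ F ≃* GL ι F)
    (hact : ∀ g x, (Φ g : Matrix ι ι F) *ᵥ L x = L ((g : Matrix κ κ F) *ᵥ x)) :
    (omega (q.comp L.toLinearMap)).map Φ.toMonoidHom = omega q := by
  have hOΦ : ∀ k, k ∈ O (q.comp L.toLinearMap) → Φ k ∈ O q := fun k hk v _ => by
    obtain ⟨x, rfl⟩ := L.surjective v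
    show q ((Φ k : Matrix ι ι F) *ᵥ L x) = q (L x)
    rw [hact]
    exact CfsgLib.Orth.Q_app (Q := q.comp L.toLinearMap) ⟨k, hk⟩ x
  let θ : O (q.comp L.toLinearMap) →* O q :=
    { toFun := fun k => ⟨Φ k.1, hOΦ k.1 k.2⟩
      map_one' := Subtype.ext (map_one Φ)
      map_mul' := fun k l => Subtype.ext (map_mul Φ k.1 l.1) }
  have hθ : Function.Surjective θ := fun g => by
    refine ⟨⟨Φ.symm g.1, fun x _ => ?_⟩, Subtype.ext (Φ.apply_symm_apply g.1)⟩
    show q (L ((Φ.symm g.1 : Matrix κ κ F) *ᵥ x)) = q (L x)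
    rw [← hact, Φ.apply_symm_apply]
    exact CfsgLib.Orth.Q_app g (L x)
  have hcomm : commutator (O q) = (commutator (O (q.comp L.toLinearMap))).map θ := by
    rw [commutator_def, commutator_def, Subgroup.map_commutator, Subgroup.map_top_of_surjective θ hθ]
  rw [omega, omega, hcomm, Subgroup.map_map, Subgroup.map_map]
  rfl

end

/-- A quadratic space similar to a tensor power of an alternating form. -/
structure Frame (F : Type*) [Field F] (n k t : ℕ) where
  J : Matrix (Fin k) (Fin k) F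
  alt : Alt J
  two : (2 : F) ≠ 0
  q : QuadraticForm F (Fin n → F)
  c : F
  c_ne : c ≠ 0
  cd : (Idx k t → F) ≃ₗ[F] (Fin n → F)
  φ : GL (Idx k t) F ≃* GL (Fin n) F
  act : ∀ g x, (φ g : Matrix (Fin n) (Fin n) F) *ᵥ cd x = cd ((g : Matrix (Idx k t) (Idx k t) F) *ᵥ x)
  form : ∀ x y, polar q (cd x) (cd y) = c * (x ⬝ᵥ Jt J t *ᵥ y)

namespace Frame

variable {F : Type*} [Field F] {n k t : ℕ}

theorem mem_O (Fr : Frame F n k t) (g : GL (Idx k t) F) :
    Fr.φ g ∈ O Fr.q ↔ Iso (Jt Fr.J t) (g : Matrix (Idx k t) (Idx k t) F) := by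
  constructor
  · intro h
    refine Matrix.toBilin'.injective (LinearMap.ext fun x => LinearMap.ext fun y => ?_)
    have h' := CfsgLib.Orth.polar_app (Q := Fr.q) ⟨_, h⟩ (Fr.cd x) (Fr.cd y)
    rw [CfsgLib.Orth.app_apply, CfsgLib.Orth.app_apply, Fr.act, Fr.act, Fr.form, Fr.form] at h'
    rw [Matrix.toBilin'_apply', Matrix.toBilin'_apply', ← mulVec_mulVec, ← mulVec_mulVec, dotProduct_mulVec x,
      vecMul_transpose]
    exact mul_left_cancel₀ Fr.c_ne h'
  · intro h v _
    obtain ⟨x, rfl⟩ := Fr.cd.surjective v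
    show Fr.q ((Fr.φ g : Matrix (Fin n) (Fin n) F) *ᵥ Fr.cd x) = Fr.q (Fr.cd x)
    rw [Fr.act]
    refine mul_left_cancel₀ Fr.two ?_
    rw [← CfsgLib.Orth.polar_self', ← CfsgLib.Orth.polar_self', Fr.form, Fr.form]
    congr 1
    conv_lhs => arg 1; rw [← vecMul_transpose]
    rw [← dotProduct_mulVec, mulVec_mulVec, mulVec_mulVec, show _ = Jt Fr.J t from h]

theorem iso_of_mem_omega (Fr : Frame F n k t) {g : GL (Idx k t) F} (h : Fr.φ g ∈ omega Fr.q) :
    Iso (Jt Fr.J t) (g : Matrix (Idx k t) (Idx k t) F) := by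
  obtain ⟨g', -, hg'⟩ := h
  exact (Fr.mem_O g).1 (hg' ▸ g'.2)

end Frame

/-! ### Splitting off one factor -/

section Split

variable {F : Type*} [Field F] {n k t : ℕ}

/-- The index set at a splitting. -/
def spl (k : ℕ) {t : ℕ} (p : Fin (t + 1)) : Idx k (t + 1) ≃ Fin k × Fin (k ^ t) :=
  (split p).trans (Equiv.prodCongr (Equiv.refl _) finFunctionFinEquiv)

/-- Coordinates at a splitting. -/
noncomputable def Tv (p : Fin (t + 1)) : V2 F k (k ^ t) ≃ₗ[F] (Idx k (t + 1) → F) :=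
  LinearEquiv.funCongrLeft F F (spl k p)

/-- The rest of the factors. -/
def rst (w : Fin (k ^ t) → F) : Idx k t → F := w ∘ finFunctionFinEquiv

theorem tvec_Tv (p : Fin (t + 1)) (w : Fin (k ^ t) → F) (u : Fin k → F) :
    tvec p (Tv p (TensorMax.pl w u)) = CfsgLib.TensorWreathMax.pl u (rst w) := by
  ext ⟨a, x⟩
  simp [tvec, Tv, spl, rst, TensorMax.pl, CfsgLib.TensorWreathMax.pl, LinearEquiv.funCongrLeft_apply, LinearMap.funLeft]

theorem ext_Tv (p : Fin (t + 1)) {X Y : Matrix (Idx k (t + 1)) (Idx k (t + 1)) F}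
    (h : ∀ w u, X *ᵥ Tv p (TensorMax.pl w u) = Y *ᵥ Tv p (TensorMax.pl w u)) : X = Y := by
  refine ext_tp fun xs => ?_
  have e : tp xs = Tv p (TensorMax.pl (tp (p.removeNth xs) ∘ finFunctionFinEquiv.symm) (xs p)) := by
    refine (tvec p).injective ?_
    rw [tvec_Tv, CfsgLib.TensorWreathMax.tvec_tp]
    congr 1
    funext x
    simp [rst]
  rw [e]
  exact h _ _

/-- A matrix that is a Kronecker product at the splitting. -/
theorem mulVec_Tv (p : Fin (t + 1)) {X : Matrix (Idx k (t + 1)) (Idx k (t + 1)) F}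
    {A : Matrix (Fin k) (Fin k) F} {B : Matrix (Idx k t) (Idx k t) F} (h : rx p X = A ⊗ₖ B)
    (w : Fin (k ^ t) → F) (u : Fin k → F) : X *ᵥ Tv p (TensorMax.pl w u) =
      Tv p (TensorMax.pl ((B *ᵥ rst w) ∘ finFunctionFinEquiv.symm) (A *ᵥ u)) := by
  refine (tvec p).injective ?_
  rw [← CfsgLib.TensorWreathMax.rx_mulVec_tvec, tvec_Tv, tvec_Tv, h, CfsgLib.TensorWreathMax.kronecker_mulVec_pl]
  congr 1
  funext x
  simp [rst]

theorem dot_tvec (p : Fin (t + 1)) (x y : Idx k (t + 1) → F) : tvec p x ⬝ᵥ tvec p y = x ⬝ᵥ y := by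
  simp only [tvec, LinearEquiv.funCongrLeft_apply, LinearMap.funLeft, LinearMap.coe_mk, AddHom.coe_mk, dotProduct,
    Function.comp_apply]
  exact Equiv.sum_comp (split p).symm fun a => x a * y a

theorem dot_pl (u u' : Fin k → F) (w w' : Idx k t → F) :
    CfsgLib.TensorWreathMax.pl u w ⬝ᵥ CfsgLib.TensorWreathMax.pl u' w' = (u ⬝ᵥ u') * (w ⬝ᵥ w') := by
  simp only [CfsgLib.TensorWreathMax.pl, LinearMap.coe_mk, AddHom.coe_mk, dotProduct, Fintype.sum_prod_type,
    Finset.sum_mul_sum]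
  exact Finset.sum_congr rfl fun a _ => Finset.sum_congr rfl fun b _ => by ring

theorem fm_power {J : Matrix (Fin k) (Fin k) F} (hJ : Alt J) (h2 : (2 : F) ≠ 0) (ht : Odd t) :
    Cfsg.Geo.IsSymplecticForm (fun x y : Idx k t → F => x ⬝ᵥ Jt J t *ᵥ y) := by
  have hskew : ∀ x y : Idx k t → F, x ⬝ᵥ Jt J t *ᵥ y = -(y ⬝ᵥ Jt J t *ᵥ x) := fun x y => by
    rw [dotProduct_mulVec, ← mulVec_transpose, Jt_transpose hJ, ht.neg_one_pow, neg_one_smul, neg_mulVec,
      neg_dotProduct, dotProduct_comm]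
  exact
  { bilinear :=
      { add_left := fun x y v => add_dotProduct _ _ _
        smul_left := fun r x v => smul_dotProduct _ _ _
        add_right := fun v x y => by simp [mulVec_add, dotProduct_add]
        smul_right := fun r v x => by simp [mulVec_smul, dotProduct_smul] }
    skew := hskew
    alternating := fun v => by
      have h := hskew v v
      rcases mul_eq_zero.1 (show (2 : F) * (v ⬝ᵥ Jt J t *ᵥ v) = 0 by linear_combination h) with h' | h'
      · exact absurd h' h2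
      · exact h'
    nondegenerate := fun v hv => by
      obtain ⟨u, hu⟩ := Jt_isUnit (t := t) hJ
      obtain ⟨a, ha⟩ := Function.ne_iff.1 hv
      set x := ((u⁻¹ : GL (Idx k t) F) : Matrix (Idx k t) (Idx k t) F) *ᵥ Pi.single a (1 : F)
      have hx : v ⬝ᵥ Jt J t *ᵥ x ≠ 0 := by
        rw [← hu, GeomClasses.gl_mulVec_inv_mulVec]
        simpa using ha
      exact ⟨⟨x, by show x ⬝ᵥ Jt J t *ᵥ v ≠ 0; rw [hskew]; exact neg_ne_zero.2 hx⟩, ⟨x, hx⟩⟩ }

namespace Frame

variable (Fr : Frame F n k (t + 1)) (ht : Odd t) (p : Fin (t + 1))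

/-- The space at a splitting. -/
noncomputable def data : CfsgLib.TensorSympPair.Data F k (k ^ t) where
  β := Fr.c • fm Fr.J
  γ := Matrix.toBilin' (Matrix.reindex finFunctionFinEquiv finFunctionFinEquiv (Jt Fr.J t))
  q := Fr.q.comp ((Tv p).trans Fr.cd).toLinearMap
  βalt := fun x => by simp [Fr.alt.self]
  βnd := ⟨fun x hx => Fr.alt.nondeg.1 x fun y => by simpa [Fr.c_ne] using hx y,
    fun x hx => Fr.alt.nondeg.2 x fun y => by simpa [Fr.c_ne] using hx y⟩
  γalt := fun x => by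
    have h := (fm_power Fr.alt Fr.two ht).alternating (rst x)
    rw [Matrix.toBilin'_apply', Matrix.reindex_apply, Matrix.submatrix_mulVec_equiv]
    simp only [Equiv.symm_symm]
    rw [← h]
    simp only [rst, dotProduct]
    rw [← Equiv.sum_comp finFunctionFinEquiv]
    simp
  γnd := by
    rw [LinearMap.BilinForm.nondegenerate_toBilin'_iff_det_ne_zero, Matrix.det_reindex_self]
    exact ((Matrix.isUnit_iff_isUnit_det _).1 (Jt_isUnit Fr.alt)).ne_zero
  q_pl := fun u w => by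
    refine (mul_eq_zero.1 ?_).resolve_left Fr.two
    show (2 : F) * Fr.q (Fr.cd (Tv p (TensorMax.pl w u))) = 0
    rw [← CfsgLib.Orth.polar_self', Fr.form, ← dot_tvec p, ← CfsgLib.TensorWreathMax.rx_mulVec_tvec, rx_Jt, tvec_Tv,
      CfsgLib.TensorWreathMax.kronecker_mulVec_pl, dot_pl, dotProduct_mulVec, ← fm_apply, Fr.alt.self, zero_mul,
      mul_zero]
  polar_pl := fun u w u' w' => by
    show Fr.q (Fr.cd (Tv p (TensorMax.pl w u + TensorMax.pl w' u'))) - Fr.q (Fr.cd (Tv p (TensorMax.pl w u))) -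
      Fr.q (Fr.cd (Tv p (TensorMax.pl w' u'))) = _
    rw [map_add, map_add]
    refine (Fr.form _ _).trans ?_
    rw [← dot_tvec p, ← CfsgLib.TensorWreathMax.rx_mulVec_tvec, rx_Jt, tvec_Tv, tvec_Tv,
      CfsgLib.TensorWreathMax.kronecker_mulVec_pl, dot_pl, dotProduct_mulVec, ← fm_apply,
      Matrix.reindex_apply]
    rw [Matrix.toBilin'_apply' _ w, Matrix.submatrix_mulVec_equiv]
    simp only [LinearMap.smul_apply, smul_eq_mul, Equiv.symm_symm, mul_assoc, fm_apply, ← dotProduct_mulVec]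
    congr 2
    simp only [rst, dotProduct]
    conv_rhs => rw [← Equiv.sum_comp finFunctionFinEquiv]
    simp

theorem γ_eq (w w' : Fin (k ^ t) → F) : (Fr.data ht p).γ w w' = rst w ⬝ᵥ Jt Fr.J t *ᵥ rst w' := by
  show Matrix.toBilin' _ w w' = _
  rw [Matrix.toBilin'_apply', Matrix.reindex_apply, Matrix.submatrix_mulVec_equiv]
  simp only [Equiv.symm_symm, rst, dotProduct]
  conv_lhs => rw [← Equiv.sum_comp finFunctionFinEquiv]
  simp

theorem β_eq (u u' : Fin k → F) : (Fr.data ht p).β u u' = Fr.c * fm Fr.J u u' := rfl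

/-- The groups at a splitting and on the whole space. -/
def Φ : GL (Fin k × Fin (k ^ t)) F ≃* GL (Fin n) F := (Cfsg.Geo.glReindex (spl k p).symm).trans Fr.φ

theorem act_Φ (g : GL (Fin k × Fin (k ^ t)) F) (x : V2 F k (k ^ t)) :
    (Fr.Φ p g : Matrix (Fin n) (Fin n) F) *ᵥ Fr.cd (Tv p x) = Fr.cd (Tv p ((g : M2 F k (k ^ t)) *ᵥ x)) := by
  show (Fr.φ (Cfsg.Geo.glReindex (spl k p).symm g) : Matrix (Fin n) (Fin n) F) *ᵥ _ = _
  rw [Fr.act]
  congr 1
  show (Matrix.reindexAlgEquiv F F (spl k p).symm (g : M2 F k (k ^ t))) *ᵥ _ = _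
  funext a
  simp [Tv, Matrix.reindexAlgEquiv_apply, Matrix.submatrix_mulVec_equiv, LinearEquiv.funCongrLeft_apply,
    LinearMap.funLeft, Function.comp_def]

theorem omega_eq : (Fr.data ht p).omega.map (Fr.Φ p).toMonoidHom = omega Fr.q :=
  omega_map Fr.q ((Tv p).trans Fr.cd) (Fr.Φ p) (Fr.act_Φ p)

/-- Recognising the element over an element at the splitting. -/
theorem Φ_eq {g : GL (Fin k × Fin (k ^ t)) F} {x : GL (Idx k (t + 1)) F}
    (h : ∀ w u, (g : M2 F k (k ^ t)) *ᵥ TensorMax.pl w u =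
      (Tv p).symm ((x : Matrix (Idx k (t + 1)) (Idx k (t + 1)) F) *ᵥ Tv p (TensorMax.pl w u))) :
    Fr.Φ p g = Fr.φ x := by
  refine congrArg Fr.φ (Units.ext (ext_Tv p fun w u => ?_))
  apply Fr.cd.injective
  rw [← Fr.act]
  exact (Fr.act_Φ p g _).trans (by rw [h, LinearEquiv.apply_symm_apply])

/-- The element of the stabiliser as a transvection of the left factor. -/
theorem Φ_left (u : Fin k → F) (r : F) {x : GL (Idx k (t + 1)) F}
    (hx : (x : Matrix (Idx k (t + 1)) (Idx k (t + 1)) F) = 1 + (r * Fr.c) • slot p (Xm Fr.J u)) :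
    Fr.Φ p (TensorMax.el (TensorMax.tu ((Fr.data ht p).bv u) (r • u) : V2 F k (k ^ t) →ₗ[F] V2 F k (k ^ t))) =
      Fr.φ x := by
  refine Fr.Φ_eq p fun w v => ?_
  rw [TensorMax.el_mulVec (TensorMax.tu_sq (by
      rw [dotProduct_smul, CfsgLib.TensorSympPair.Data.bv_dot, CfsgLib.TensorSympPair.Data.β_self, smul_zero])),
    TensorMax.tu_apply, TensorMax.D_pl, TensorMax.pr_eq, CfsgLib.TensorSympPair.Data.bv_dot, β_eq, hx,
    mulVec_Tv p (A := 1 + (r * Fr.c) • Xm Fr.J u) (B := 1) (by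
      rw [map_add, map_one, map_smul, CfsgLib.TensorWreathMax.rx_slot_same, ← smul_kronecker, ← one_kronecker_one,
        ← add_kronecker]), LinearEquiv.symm_apply_apply]
  have hw : ((1 : Matrix (Idx k t) (Idx k t) F) *ᵥ rst w) ∘ finFunctionFinEquiv.symm = w := by
    funext a; simp [rst]
  rw [hw, add_mulVec, one_mulVec, smul_mulVec, Xm_mulVec, map_add, CfsgLib.TensorSympPair.pl_smul_left, ← map_smul]
  congr 2
  module

include ht in
/-- Slot transvections are in `Ω`. -/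
theorem root_mem [Fintype F] (hn : 7 ≤ Fintype.card (Fin k × Fin (k ^ t))) (u : Fin k → F) (r : F) :
    In ((omega Fr.q).comap Fr.φ.toMonoidHom) (1 + r • slot p (Xm Fr.J u)) := by
  have hdet : (1 + r • Xm Fr.J u).det ≠ 0 := fun h0 => by
    have h := congrArg Matrix.det (root_mul Fr.alt u r)
    rw [det_mul, h0, zero_mul, det_one] at h
    exact zero_ne_one h
  let x : GL (Idx k (t + 1)) F := ⟨slot p (1 + r • Xm Fr.J u), slot p (1 + (-r) • Xm Fr.J u),
    by rw [slot_mul, root_mul Fr.alt, slot_one],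
    by rw [slot_mul]; conv_lhs => rw [show r = - -r from (neg_neg r).symm]
       rw [neg_neg, ← slot_one p]; congr 1; simpa using root_mul Fr.alt u (-r)⟩
  have hx : (x : Matrix (Idx k (t + 1)) (Idx k (t + 1)) F) = 1 + (r / Fr.c * Fr.c) • slot p (Xm Fr.J u) := by
    show slot p (1 + r • Xm Fr.J u) = _
    rw [div_mul_cancel₀ r Fr.c_ne, map_add, map_smul, slot_one]
  refine ⟨x, ?_, by rw [hx, div_mul_cancel₀ r Fr.c_ne]⟩
  show Fr.φ x ∈ omega Fr.q
  rw [← Fr.Φ_left ht p u (r / Fr.c) hx, ← Fr.omega_eq ht p]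
  exact Subgroup.mem_map_of_mem _ ((Fr.data ht p).leftT_mem hn u (r / Fr.c))

end Frame

end Split

end CfsgLib.TensorSympEven
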