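import Cfsg.Agent.Lib.TensorSympEven.Drop

/-!
With a non-scalar coefficient and an even number of slots there are the products on all slots but one.
-/

set_option autoImplicit false
set_option linter.unusedSectionVars false
set_option linter.unusedSimpArgs false

namespace CfsgLib.TensorSympWreath

open Matrix
open CfsgLib.Maximal.TensorPower
open CfsgLib.TensorWreathMax (Idx In permM permM_mul_self)

attribute [-simp] Matrix.coe_units_inv

variable {F : Type*} [Field F] {m N : ℕ}

theorem pat_singleton (j : Fin N) (os : Fin N → Matrix (Fin m) (Fin m) F) :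
    pat ({j} : Finset (Fin N)) os = slot j (os j) := by
  rw [show ({j} : Finset (Fin N)) = insert j ∅ by simp, pat_insert (Finset.notMem_empty j), pat_empty, mul_one]

theorem HasPair.four_le {J : Matrix (Fin m) (Fin m) F} (hJ : Alt J) (h : HasPair J) : 4 ≤ m := by
  obtain ⟨v, c, hv, hvc, hind⟩ := h
  obtain ⟨r, hr⟩ := CfsgLib.SpInvClasses.even_finrank (fm J) hJ.isAlt hJ.nondeg.1
  rw [Module.finrank_fintype_fun_eq_card, Fintype.card_fin] at hr
  by_contra hlt
  obtain ⟨f, hf⟩ := hJ.exists_pair hv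
  have hli : LinearIndependent F ![v, c, f] := by
    rw [Fintype.linearIndependent_iff]
    intro g hg
    simp only [Fin.sum_univ_three] at hg
    have h2 : g 2 = 0 := by simpa [hJ.self, hvc, hf] using congrArg (fm J v) hg
    simp [h2] at hg
    have h1 : g 1 = 0 := by
      by_contra h1
      refine hind (-(g 1)⁻¹ * g 0) ?_
      rw [mul_smul, show g 0 • v = -(g 1 • c) from eq_neg_of_add_eq_zero_left hg, smul_neg, neg_smul, neg_neg,
        smul_smul, inv_mul_cancel₀ h1, one_smul]
    simp [h1] at hg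
    intro x
    fin_cases x
    · exact hg.resolve_right hv
    · exact h1
    · exact h2
  have := hli.fintype_card_le_finrank
  rw [Module.finrank_fintype_fun_eq_card, Fintype.card_fin, Fintype.card_fin] at this
  omega

namespace Whole

variable {J : Matrix (Fin m) (Fin m) F} {M : Subgroup (GL (Idx m N) F)} (hW : Whole J M) {i : Fin N}
include hW

/-- Without isotropic pairs a skew square zero operator is a transvection direction. -/
theorem exists_Xm_of_noPair (hP : ¬ HasPair J) {O : Matrix (Fin m) (Fin m) F} (hk : Kind J (-1) O) :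
    ∃ w, w ≠ 0 ∧ ∃ c : F, c ≠ 0 ∧ O = c • Xm J w := by
  obtain ⟨hO, hOO, -, hsk⟩ := hk
  obtain ⟨u, hu⟩ : ∃ u, O *ᵥ u ≠ 0 := by
    by_contra hcon
    push Not at hcon
    exact hO (Matrix.ext_of_mulVec_single fun x => by rw [hcon, zero_mulVec])
  set v := O *ᵥ u
  have hline : ∀ c, fm J v c = 0 → ∃ a : F, c = a • v := fun c hc => by
    by_contra hcon
    push Not at hcon
    exact hP ⟨v, c, hu, hc, hcon⟩
  have hskew : ∀ a b, fm J (O *ᵥ a) b = -fm J a (O *ᵥ b) := fun a b => by
    rw [fm_apply, fm_apply, ← vecMul_transpose, vecMul_vecMul, hsk, neg_one_smul, vecMul_neg, neg_dotProduct,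
      ← vecMul_vecMul, ← dotProduct_mulVec]
  have hperp : ∀ a, fm J v (O *ᵥ a) = 0 := fun a => by
    rw [hskew, mulVec_mulVec, hOO, zero_mulVec, map_zero, neg_zero]
  choose α hα using fun a => hline _ (hperp a)
  obtain ⟨f, hf⟩ := hW.alt.exists_pair hu
  refine ⟨v, hu, α f, fun h0 => ?_, Matrix.ext_of_mulVec_single fun x => ?_⟩
  · have h1 := hskew u f
    rw [show O *ᵥ u = v from rfl, hf, hα f, h0, zero_smul, map_zero, neg_zero] at h1
    exact one_ne_zero h1
  · generalize (Pi.single x (1 : F) : Fin m → F) = a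
    rw [smul_mulVec, Xm_mulVec, smul_smul, hα a]
    congr 1
    have h1 := hskew a f
    rw [hα a, hα f, map_smul, LinearMap.smul_apply, map_smul, hf, hW.alt.flip v a] at h1
    simp only [smul_eq_mul, mul_one] at h1
    rw [h1]; ring

/-- An even set of slots with transvection directions in a coefficient. -/
theorem exists_even [NeZero m]
    (hperm : ∀ a b c d : Fin N, a ≠ b → c ≠ d → In M (permM (Equiv.swap a b) * permM (Equiv.swap c d)))
    (hN : 4 ≤ N) {Y₀ : Matrix (Idx m N) (Idx m N) F} (hY₀ : Coef J M i Y₀) (hns : ∀ c : F, Y₀ ≠ c • 1) :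
    ∃ (T : Finset (Fin N)) (w : Fin N → Fin m → F), i ∉ T ∧ T.Nonempty ∧ Even T.card ∧ (∀ l ∈ T, w l ≠ 0) ∧
      Coef J M i (pat T fun l => Xm J (w l)) := by
  classical
  obtain ⟨S, os, ss, hiS, hSne, hk, hY⟩ := hW.exists_pat hY₀ hns
  by_cases hP : HasPair J
  swap
  · have hk' : ∀ l ∈ S, Kind J (-1) (os l) := fun l hl => by
      obtain ⟨h1, h2 | h2⟩ := hk l hl
      · rwa [h2] at h1
      · exact absurd h2 hP
    have hX : ∀ l, ∃ w, ∃ c : F, l ∈ S → w ≠ 0 ∧ c ≠ 0 ∧ os l = c • Xm J w := fun l => by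
      by_cases hl : l ∈ S
      · obtain ⟨w, hw, c, hc, h⟩ := hW.exists_Xm_of_noPair hP (hk' l hl)
        exact ⟨w, c, fun _ => ⟨hw, hc, h⟩⟩
      · exact ⟨0, 0, fun h => absurd h hl⟩
    choose w c hwc using hX
    refine ⟨S, w, hiS, hSne, hW.even_of_skew hiS hk' hY, fun l hl => (hwc l hl).1, hW.coef_of_smul
      (Finset.prod_ne_zero_iff.2 fun l hl => (hwc l hl).2.1 : ∏ l ∈ S, c l ≠ 0) ?_⟩
    rw [← pat_smul, pat_congr (os' := os) fun l hl => (hwc l hl).2.2.symm]
    exact hY
  have hk' : ∀ l ∈ S, Kind J (ss l) (os l) := fun l hl => (hk l hl).1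
  rcases Nat.even_or_odd S.card with hev | hodd
  · obtain ⟨w, hw, h⟩ := hW.coef_to_Xm hP hiS hev hk' hY
    exact ⟨S, w, hiS, hSne, hev, hw, h⟩
  by_cases h3 : 3 ≤ S.card
  · obtain ⟨l, hl, hkl⟩ : ∃ l ∈ S, ss l = 1 := by
      by_contra hcon
      push Not at hcon
      refine Nat.not_even_iff_odd.2 hodd (hW.even_of_skew hiS (fun l hl => ?_) hY)
      have h := hk' l hl
      rwa [h.2.2.1.resolve_left (hcon l hl)] at h
    have hev : Even (S.erase l).card := by
      rw [Finset.card_erase_of_mem hl]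
      exact Nat.Odd.sub_odd hodd odd_one
    obtain ⟨w, hw, h⟩ := hW.coef_drop (hP.four_le hW.alt) hiS hl hev hk' hkl hY
    exact ⟨S.erase l, w, fun h => hiS (Finset.mem_of_mem_erase h),
      Finset.card_pos.1 (by rw [Finset.card_erase_of_mem hl]; omega), hev, hw, h⟩
  -- a single slot
  obtain ⟨j, rfl⟩ := Finset.card_eq_one.1 (by obtain ⟨k, hk⟩ := hodd; omega : S.card = 1)
  rw [Finset.mem_singleton] at hiS
  obtain ⟨l, hl⟩ : ∃ l, l ∉ ({i, j} : Finset (Fin N)) := by
    refine (Finset.exists_mem_notMem_of_card_lt_card (s := ({i, j} : Finset (Fin N))) (t := Finset.univ) ?_).imp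
      fun _ h => h.2
    rw [Finset.card_univ, Fintype.card_fin]
    exact lt_of_le_of_lt Finset.card_le_two (by omega)
  obtain ⟨x, hx⟩ : ∃ x, x ∉ ({i, j, l} : Finset (Fin N)) := by
    refine (Finset.exists_mem_notMem_of_card_lt_card (s := ({i, j, l} : Finset (Fin N))) (t := Finset.univ) ?_).imp
      fun _ h => h.2
    rw [Finset.card_univ, Fintype.card_fin]
    exact lt_of_le_of_lt Finset.card_le_three (by omega)
  simp only [Finset.mem_insert, Finset.mem_singleton, not_or] at hl hx
  obtain ⟨hli, hlj⟩ := hl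
  obtain ⟨hxi, hxj, hxl⟩ := hx
  obtain ⟨g, hg, hgP⟩ := hperm j l j x (Ne.symm hlj) (Ne.symm hxj)
  have hgi : ((g⁻¹ : GL (Idx m N) F) : Matrix (Idx m N) (Idx m N) F) =
      permM (Equiv.swap j x) * permM (Equiv.swap j l) :=
    Units.inv_eq_of_mul_eq_one_right (by
      rw [hgP, mul_assoc, ← mul_assoc (permM (Equiv.swap j x)), permM_mul_self (Equiv.swap_mul_self j x), one_mul,
        permM_mul_self (Equiv.swap_mul_self j l)])
  have hfix : ∀ a : Fin N, a ≠ i → ∀ Z : Matrix (Fin m) (Fin m) F,
      (permM (Equiv.swap j a) : Matrix (Idx m N) (Idx m N) F) * slot i Z = slot i Z * permM (Equiv.swap j a) := by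
    intro a ha Z
    rw [slot_apply, CfsgLib.TensorWreathMax.permM_mul_pm]
    congr 2
    funext k
    rcases eq_or_ne k i with rfl | hk'
    · simp [Equiv.swap_apply_of_ne_of_ne hiS (Ne.symm ha)]
    · have : Equiv.swap j a k ≠ i := fun h => hk' (by
        rw [← Equiv.swap_apply_self j a k, h, Equiv.swap_apply_of_ne_of_ne hiS (Ne.symm ha)])
      simp [hk', this]
  have hZ := hW.coef_conj hY hg (fun Z => by
    rw [hgP, mul_assoc, hfix x hxi, ← mul_assoc, hfix l hli, mul_assoc])
  rw [hgP, hgi, show ∀ A : Matrix (Idx m N) (Idx m N) F,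
    permM (Equiv.swap j l) * permM (Equiv.swap j x) * A * (permM (Equiv.swap j x) * permM (Equiv.swap j l)) =
      permM (Equiv.swap j l) * (permM (Equiv.swap j x) * A * permM (Equiv.swap j x)) * permM (Equiv.swap j l) from
        fun A => by simp only [mul_assoc], pat_swap, pat_swap, Finset.image_singleton, Equiv.swap_apply_left,
    Finset.image_singleton, Equiv.swap_apply_of_ne_of_ne hxj hxl] at hZ
  -- here the single slot has moved to `x`
  have hO : pat ({x} : Finset (Fin N)) (fun k => os (Equiv.swap j x (Equiv.swap j l k))) = slot x (os j) := by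
    rw [pat_singleton, Equiv.swap_apply_of_ne_of_ne hxj hxl, Equiv.swap_apply_right]
  have hO' : pat ({j} : Finset (Fin N)) os = slot j (os j) := by
    rw [pat_singleton]
  have h := hW.coef_jordan hP hY hZ
  rw [hO, hO', slot_comm hxj, ← two_smul F] at h
  have h' := hW.coef_of_smul hW.two h
  have e : slot j (os j) * slot x (os j) = pat ({j, x} : Finset (Fin N)) (fun _ => os j) := by
    rw [pat_insert (by simpa using Ne.symm hxj), pat_singleton]
  rw [e] at h'
  have hev : Even ({j, x} : Finset (Fin N)).card := by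
    rw [Finset.card_pair (Ne.symm hxj)]; exact even_two
  have hix : i ∉ ({j, x} : Finset (Fin N)) := by simp [hiS, Ne.symm hxi]
  obtain ⟨w, hw, h''⟩ := hW.coef_to_Xm hP hix hev (os := fun _ => os j) (ss := fun _ => ss j)
    (fun _ _ => hk' j (Finset.mem_singleton_self j)) h'
  exact ⟨_, w, hix, Finset.insert_nonempty _ _, hev, hw, h''⟩

/-- All slots but one. -/
theorem pat_big [NeZero m]
    (hperm : ∀ a b c d : Fin N, a ≠ b → c ≠ d → In M (permM (Equiv.swap a b) * permM (Equiv.swap c d)))
    (hN : 4 ≤ N) (hNev : Even N) {Y₀ : Matrix (Idx m N) (Idx m N) F} (hY₀ : Coef J M i Y₀)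
    (hns : ∀ c : F, Y₀ ≠ c • 1) : ∃ p, Pat J M (Finset.univ.erase p) := by
  classical
  obtain ⟨T, w, hiT, hTne, hev, hw, hT⟩ := hW.exists_even hperm hN hY₀ hns
  have key : ∀ (d : ℕ) (S : Finset (Fin N)), Pat J M S → Odd S.card → 3 ≤ S.card → N = S.card + d →
      ∃ p, Pat J M (Finset.univ.erase p) := by
    intro d
    induction d using Nat.strong_induction_on with
    | _ d ih =>
      intro S hS hodd h3 hd
      rcases Nat.lt_or_ge d 2 with hd1 | hd2
      · obtain ⟨p, hp⟩ := Finset.card_eq_one.1 (show Sᶜ.card = 1 by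
          rw [Finset.card_compl, Fintype.card_fin]
          obtain ⟨a, ha⟩ := hodd
          obtain ⟨b, hb⟩ := hNev
          omega)
        refine ⟨p, ?_⟩
        rwa [show Finset.univ.erase p = S by rw [← compl_compl S, hp, Finset.compl_singleton]]
      obtain ⟨p, hp, q, hq, hpq⟩ := Finset.one_lt_card.1 (show 1 < Sᶜ.card by
        rw [Finset.card_compl, Fintype.card_fin]; omega)
      rw [Finset.mem_compl] at hp hq
      obtain ⟨i₀, hi₀, h⟩ := hW.pat_grow hperm hS hodd h3 hp hq hpq
      have hi : i₀ ∉ insert p (insert q (S.erase i₀)) := by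
        simp [show i₀ ≠ p from fun h => hp (h ▸ hi₀), show i₀ ≠ q from fun h => hq (h ▸ hi₀)]
      have hcard : (insert i₀ (insert p (insert q (S.erase i₀)))).card = S.card + 2 := by
        rw [Finset.card_insert_of_notMem hi, Finset.card_insert_of_notMem (by simp [hpq, hp]),
          Finset.card_insert_of_notMem (by simp [hq]), Finset.card_erase_of_mem hi₀]
        omega
      refine ih (d - 2) (by omega) _ (hW.pat_of_coef hi h) (by rw [hcard]; exact hodd.add_even even_two) (by omega) ?_
      rw [hcard]; omega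
  refine key (N - (insert i T).card) _ (hW.pat_of_coef hiT (hW.coef_all hiT hw hT)) ?_ ?_ ?_
  · rw [Finset.card_insert_of_notMem hiT]; exact hev.add_one
  · rw [Finset.card_insert_of_notMem hiT]
    obtain ⟨k, hk⟩ := hev
    have := hTne.card_pos
    omega
  · have := (insert i T).card_le_univ
    rw [Fintype.card_fin] at this
    omega

end Whole

end CfsgLib.TensorSympWreath
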