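import Cfsg.Agent.Lib.TensorSympEven.Top

/-!
The stabiliser of an even tensor power of a symplectic form is maximal in `Ω` in odd characteristic.
-/

set_option autoImplicit false
set_option linter.unusedSectionVars false
set_option linter.unusedSimpArgs false
set_option linter.style.haveILetI false

namespace CfsgLib.TensorSympEven

open Matrix QuadraticMap
open scoped Kronecker commutatorElement
open CfsgLib.Maximal.TensorPower
open CfsgLib.TensorWreathMax (Idx In permM permM_mulVec permM_mul_self dot_tp mem_standard)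
open CfsgLib.TensorSympWreath
open CfsgLib.GeomClasses
open CfsgLib.Orth (O app eich app_eich)

attribute [-simp] Matrix.coe_units_inv

variable {F : Type*} [Field F] {n k t : ℕ}

/-- A functional nonzero on two given nonzero vectors. -/
theorem exists_dot_ne_zero {x y : Fin k → F} (hx : x ≠ 0) (hy : y ≠ 0) : ∃ θ, θ ⬝ᵥ x ≠ 0 ∧ θ ⬝ᵥ y ≠ 0 := by
  obtain ⟨a, ha⟩ := CfsgLib.TensorWreathMax.exists_dot_eq_one hx
  obtain ⟨b, hb⟩ := CfsgLib.TensorWreathMax.exists_dot_eq_one hy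
  by_cases h1 : a ⬝ᵥ y = 0
  · by_cases h2 : b ⬝ᵥ x = 0
    · exact ⟨a + b, by rw [add_dotProduct, ha, h2, add_zero]; exact one_ne_zero,
        by rw [add_dotProduct, h1, hb, zero_add]; exact one_ne_zero⟩
    · exact ⟨b, h2, by rw [hb]; exact one_ne_zero⟩
  · exact ⟨a, by rw [ha]; exact one_ne_zero, h1⟩

/-- A sum of two pure tensors differing in two slots is not pure. -/
theorem sum_not_pure {xs ys zs : Fin t → Fin k → F} {c : F} (hc : c ≠ 0) (hx : ∀ l, xs l ≠ 0) (hy : ∀ l, ys l ≠ 0)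
    {l₀ l₁ : Fin t} (hl : l₀ ≠ l₁) (h₀ : ∀ s : F, ys l₀ ≠ s • xs l₀) (h₁ : ∀ s : F, ys l₁ ≠ s • xs l₁) :
    tp zs ≠ tp xs + c • tp ys := by
  classical
  intro h
  have hdot : ∀ θ : Fin t → Fin k → F,
      ∏ l, θ l ⬝ᵥ zs l = (∏ l, θ l ⬝ᵥ xs l) + c * ∏ l, θ l ⬝ᵥ ys l := fun θ => by
    simpa [dotProduct_add, dotProduct_smul, dot_tp] using congrArg (tp θ ⬝ᵥ ·) h
  choose θ hθx hθy using fun l => exists_dot_ne_zero (hx l) (hy l)
  have hsym : ∀ l, (∀ s : F, ys l ≠ s • xs l) → ∀ s : F, xs l ≠ s • ys l := fun l hl' s hs => by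
    rcases eq_or_ne s 0 with h0 | h0
    · exact hx l (by rw [hs, h0, zero_smul])
    · exact hl' s⁻¹ (by rw [hs, smul_smul, inv_mul_cancel₀ h0, one_smul])
  obtain ⟨r₀, hr₀x, hr₀y⟩ := CfsgLib.TensorWreathMax.exists_perp_eq_one h₀
  obtain ⟨p₀, hp₀y, hp₀x⟩ := CfsgLib.TensorWreathMax.exists_perp_eq_one (hsym _ h₀)
  obtain ⟨r₁, hr₁x, hr₁y⟩ := CfsgLib.TensorWreathMax.exists_perp_eq_one h₁
  obtain ⟨p₁, hp₁y, hp₁x⟩ := CfsgLib.TensorWreathMax.exists_perp_eq_one (hsym _ h₁)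
  set θp := Function.update (Function.update θ l₀ p₀) l₁ p₁ with hθp
  set θr := Function.update (Function.update θ l₀ r₀) l₁ r₁ with hθr
  set θm := Function.update (Function.update θ l₀ p₀) l₁ r₁ with hθm
  have hp : ∏ l, θp l ⬝ᵥ zs l ≠ 0 := by
    rw [hdot, Finset.prod_eq_zero (f := fun l => θp l ⬝ᵥ ys l) (Finset.mem_univ l₀)
      (show θp l₀ ⬝ᵥ ys l₀ = 0 by simp [hθp, hl, hp₀y]), mul_zero, add_zero]
    refine Finset.prod_ne_zero_iff.2 fun l _ => ?_
    rcases eq_or_ne l l₁ with rfl | h1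
    · simp [hθp, hp₁x]
    rcases eq_or_ne l l₀ with rfl | h0
    · simp [hθp, h1, hp₀x]
    · simp [hθp, h1, h0, hθx]
  have hr : ∏ l, θr l ⬝ᵥ zs l ≠ 0 := by
    rw [hdot, Finset.prod_eq_zero (Finset.mem_univ l₀)
      (show θr l₀ ⬝ᵥ xs l₀ = 0 by simp [hθr, hl, hr₀x]), zero_add]
    refine mul_ne_zero hc (Finset.prod_ne_zero_iff.2 fun l _ => ?_)
    rcases eq_or_ne l l₁ with rfl | h1
    · simp [hθr, hr₁y]
    rcases eq_or_ne l l₀ with rfl | h0
    · simp [hθr, h1, hr₀y]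
    · simp [hθr, h1, h0, hθy]
  have hm : ∏ l, θm l ⬝ᵥ zs l = 0 := by
    rw [hdot, Finset.prod_eq_zero (Finset.mem_univ l₁) (show θm l₁ ⬝ᵥ xs l₁ = 0 by simp [hθm, hr₁x]),
      Finset.prod_eq_zero (Finset.mem_univ l₀) (show θm l₀ ⬝ᵥ ys l₀ = 0 by simp [hθm, hl, hp₀y]), mul_zero, add_zero]
  obtain ⟨l, -, hl'⟩ := Finset.prod_eq_zero_iff.1 hm
  rcases eq_or_ne l l₁ with rfl | h1
  · refine hr (Finset.prod_eq_zero (Finset.mem_univ l) ?_)
    simpa [hθr, hθm] using hl'
  · refine hp (Finset.prod_eq_zero (Finset.mem_univ l) ?_)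
    rw [← hl']
    simp [hθp, hθm, h1]

namespace Frame

variable (Fr : Frame F n k (t + 1)) (ht : Odd t)

theorem q_tp (xs : Fin (t + 1) → Fin k → F) : Fr.q (Fr.cd (tp xs)) = 0 := by
  refine (mul_eq_zero.1 ?_).resolve_left Fr.two
  rw [← CfsgLib.Orth.polar_self', Fr.form, Jt, pm_mulVec, dot_tp,
    Finset.prod_eq_zero (Finset.mem_univ 0) (by rw [dotProduct_mulVec, ← fm_apply, Fr.alt.self]), mul_zero]

theorem polar_tp (xs ys : Fin (t + 1) → Fin k → F) :
    polar Fr.q (Fr.cd (tp xs)) (Fr.cd (tp ys)) = Fr.c * ∏ l, fm Fr.J (xs l) (ys l) := by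
  rw [Fr.form, Jt, pm_mulVec, dot_tp]
  simp only [fm_apply, dotProduct_mulVec]

theorem nondeg : Fr.q.polarBilin.Nondegenerate := by
  have key : ∀ z, (∀ y, polar Fr.q z y = 0) → z = 0 := by
    intro z hz
    obtain ⟨x, rfl⟩ := Fr.cd.surjective z
    obtain ⟨u, hu⟩ := Jt_isUnit (t := t + 1) Fr.alt
    have h1 : x ᵥ* Jt Fr.J (t + 1) = 0 := funext fun a => by
      have h := hz (Fr.cd (Pi.single a 1))
      rw [Fr.form, dotProduct_mulVec, dotProduct_single, mul_one] at h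
      exact (mul_eq_zero.1 h).resolve_left Fr.c_ne
    have h2 : x = 0 := by
      rw [← vecMul_one x, ← Units.mul_inv u, ← vecMul_vecMul, hu, h1, zero_vecMul]
    rw [h2, map_zero]
  exact ⟨key, fun z hz => key z fun y => by rw [polar_comm]; exact hz y⟩

include Fr in
theorem card_le (hk : 2 ≤ k) (hkt : t = 1 → 4 ≤ k) (ht : Odd t) : 7 ≤ k * k ^ t ∧ 7 ≤ n := by
  have h1 : 7 ≤ k * k ^ t := by
    rcases Nat.lt_or_ge t 3 with h | h
    · obtain rfl : t = 1 := by obtain ⟨a, rfl⟩ := ht; omega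
      have := Nat.mul_le_mul (hkt rfl) (hkt rfl)
      rw [pow_one]; omega
    · have h3 : 2 ^ 3 ≤ k ^ t := le_trans (Nat.pow_le_pow_left hk 3) (Nat.pow_le_pow_right (by omega) h)
      have := Nat.mul_le_mul hk h3
      omega
  refine ⟨h1, ?_⟩
  have := Fr.cd.finrank_eq
  rw [Module.finrank_fintype_fun_eq_card, Module.finrank_fintype_fun_eq_card, Fintype.card_fun, Fintype.card_fin,
    Fintype.card_fin, Fintype.card_fin, pow_succ'] at this
  omega

include ht in
/-- `Ω` is not monomial. -/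
theorem exists_not_monomial [Fintype F] (hk : 2 ≤ k) (hkt : t = 1 → 4 ≤ k) :
    ∃ x : GL (Idx k (t + 1)) F, Fr.φ x ∈ omega Fr.q ∧ ¬ IsMonomial x := by
  classical
  have hk0 : NeZero k := ⟨by omega⟩
  let v : Fin k → F := Pi.single 0 1
  have hv : v ≠ 0 := by simp [v]
  obtain ⟨f, hf⟩ := Fr.alt.exists_pair hv
  have hf' : fm Fr.J f v = -1 := by rw [Fr.alt.flip v f, hf]
  have hf0 : f ≠ 0 := fun h => by rw [h, map_zero] at hf; exact zero_ne_one hf
  have hvf : ∀ s : F, v ≠ s • f := fun s h => by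
    have h' := congrArg (fun u => fm Fr.J u f) h
    simp [hf, Fr.alt.self] at h'
  -- the second vector
  obtain ⟨ys, l₀, l₁, hys, hl, h₀, h₁, hps, hxs⟩ : ∃ (ys : Fin (t + 1) → Fin k → F) (l₀ l₁ : Fin (t + 1)),
      (∀ l, ys l ≠ 0) ∧ l₀ ≠ l₁ ∧ (∀ s : F, ys l₀ ≠ s • f) ∧ (∀ s : F, ys l₁ ≠ s • f) ∧
      ∏ l, fm Fr.J v (ys l) = 0 ∧ ∏ l, fm Fr.J f (ys l) = 0 := by
    rcases Nat.lt_or_ge t 3 with h | h
    · obtain rfl : t = 1 := by obtain ⟨a, rfl⟩ := ht; omega
      obtain ⟨a, b, hva, hfa, -, -, hab⟩ := CfsgLib.TensorSympPair.exists_plane_of_pair (hkt rfl) Fr.alt.isAlt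
        Fr.alt.nondeg (x := v) (y := f) (by rw [hf]; exact one_ne_zero)
      have ha : a ≠ 0 := fun h => by rw [h, map_zero] at hab; exact zero_ne_one hab
      refine ⟨Function.update (fun _ => v) 0 a, 0, 1, fun l => ?_, by decide, fun s hs => ?_, fun s => ?_, ?_, ?_⟩
      · rcases eq_or_ne l 0 with rfl | hl
        · simpa using ha
        · simpa [hl] using hv
      · rw [Function.update_self] at hs
        rw [hs, map_smul, hf, smul_eq_mul, mul_one] at hva
        exact ha (by rw [hs, hva, zero_smul])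
      · simpa using hvf s
      · exact Finset.prod_eq_zero (Finset.mem_univ 0) (by simpa using hva)
      · exact Finset.prod_eq_zero (Finset.mem_univ 0) (by simpa using hfa)
    · let a₀ : Fin (t + 1) := ⟨0, by omega⟩
      let a₁ : Fin (t + 1) := ⟨1, by omega⟩
      let a₂ : Fin (t + 1) := ⟨2, by omega⟩
      refine ⟨Function.update (fun _ => v) a₀ f, a₁, a₂, fun l => ?_, by simp [a₁, a₂], fun s => ?_, fun s => ?_, ?_, ?_⟩
      · rcases eq_or_ne l a₀ with rfl | hl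
        · simpa using hf0
        · simpa [hl] using hv
      · simpa [Function.update_of_ne (show a₁ ≠ a₀ by simp [a₁, a₀])] using hvf s
      · simpa [Function.update_of_ne (show a₂ ≠ a₀ by simp [a₂, a₀])] using hvf s
      · exact Finset.prod_eq_zero (Finset.mem_univ a₁) (by
          simp [Function.update_of_ne (show a₁ ≠ a₀ by simp [a₁, a₀]), Fr.alt.self])
      · exact Finset.prod_eq_zero (Finset.mem_univ a₀) (by simp [Fr.alt.self])
  set p₀ := Fr.cd (tp fun _ : Fin (t + 1) => v) with hp₀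
  set r := Fr.cd (tp ys) with hr
  set x₀ := Fr.cd (tp fun _ : Fin (t + 1) => f) with hx₀
  have hpr : polar Fr.q p₀ r = 0 := by rw [polar_tp, hps, mul_zero]
  have hxr : polar Fr.q x₀ r = 0 := by rw [polar_tp, hxs, mul_zero]
  have hxp : polar Fr.q x₀ p₀ ≠ 0 := by
    rw [polar_tp]
    exact mul_ne_zero Fr.c_ne (Finset.prod_ne_zero_iff.2 fun l _ => by rw [hf']; exact neg_ne_zero.2 one_ne_zero)
  set g := eich Fr.q p₀ r
  refine ⟨Fr.φ.symm g, ?_, fun hmono => ?_⟩
  · rw [MulEquiv.apply_symm_apply]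
    exact ⟨g, OrthEich.eich_mem Fr.nondeg (by rw [Fintype.card_fin]; exact (Fr.card_le hk hkt ht).2)
      (Fr.q_tp _) hpr, rfl⟩
  obtain ⟨σ, as, hσ⟩ := hmono
  have h1 := app_eich (Fr.q_tp _) hpr x₀
  rw [CfsgLib.Orth.app_apply, ← Fr.φ.apply_symm_apply (g : GL (Fin n) F), Fr.act, hσ, hxr, Fr.q_tp, zero_mul,
    sub_zero, neg_zero, zero_smul, add_zero, hr, hx₀, ← map_smul, ← map_add] at h1
  exact sum_not_pure hxp (fun _ => hf0) hys hl h₀ h₁ (Fr.cd.injective h1)

/-- A product of two exchanges of slots is in `Ω`. -/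
theorem double_mem {a b c d : Fin (t + 1)} (hab : a ≠ b) (hcd : c ≠ d) :
    In ((omega Fr.q).comap Fr.φ.toMonoidHom)
      (permM (Equiv.swap a b) * permM (Equiv.swap c d) : Matrix (Idx k (t + 1)) (Idx k (t + 1)) F) := by
  classical
  let U : Fin (t + 1) → Fin (t + 1) → GL (Idx k (t + 1)) F := fun x y =>
    ⟨permM (Equiv.swap x y), permM (Equiv.swap x y), permM_mul_self (Equiv.swap_mul_self x y),
      permM_mul_self (Equiv.swap_mul_self x y)⟩
  have hUU : ∀ x y, (U x y)⁻¹ = U x y := fun x y => Units.ext rfl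
  have hUO : ∀ x y, Fr.φ (U x y) ∈ O Fr.q := fun x y => (Fr.mem_O _).2 (iso_permM x y)
  set b' := Equiv.swap a c b with hb'
  have hb'c : b' ≠ c := fun h => hab (by
    have h1 := congrArg (Equiv.swap a c) h
    rw [hb', Equiv.swap_apply_self, Equiv.swap_apply_right] at h1
    exact h1.symm)
  set x := U b' d * U a c with hx
  set g := U a b with hg
  have hconj : x * g * x⁻¹ = U c d := by
    refine Units.ext ?_
    rw [hx, _root_.mul_inv_rev, hUU, hUU]
    refine ext_tp fun xs => ?_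
    simp only [U, hg, Units.val_mul, ← Matrix.mulVec_mulVec, permM_mulVec]
    congr 1
    funext i
    refine congrArg xs ?_
    have hc : Equiv.swap b' d c = c := Equiv.swap_apply_of_ne_of_ne (Ne.symm hb'c) hcd
    rcases eq_or_ne i c with rfl | hic
    · rw [hc, Equiv.swap_apply_right, Equiv.swap_apply_left a b, ← hb', Equiv.swap_apply_left, Equiv.swap_apply_left]
    rcases eq_or_ne i d with rfl | hid
    · rw [Equiv.swap_apply_right b' i, show Equiv.swap a c b' = b from Equiv.swap_apply_self a c b,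
        Equiv.swap_apply_right a b, Equiv.swap_apply_left, hc, Equiv.swap_apply_right]
    rw [Equiv.swap_apply_of_ne_of_ne hic hid]
    set j := Equiv.swap b' d i
    have hja : Equiv.swap a c j ≠ a := fun h => by
      have h1 : j = c := by rw [← Equiv.swap_apply_self a c j, h, Equiv.swap_apply_left]
      have h2 := congrArg (Equiv.swap b' d) h1
      rw [Equiv.swap_apply_self, Equiv.swap_apply_of_ne_of_ne (Ne.symm hb'c) hcd] at h2
      exact hic h2
    have hjb : Equiv.swap a c j ≠ b := fun h => by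
      have h1 : j = b' := by rw [hb', ← Equiv.swap_apply_self a c j, h]
      have h2 := congrArg (Equiv.swap b' d) h1
      rw [Equiv.swap_apply_self, Equiv.swap_apply_left] at h2
      exact hid h2
    rw [Equiv.swap_apply_of_ne_of_ne hja hjb, Equiv.swap_apply_self, Equiv.swap_apply_self]
  let g' : O Fr.q := ⟨Fr.φ g, hUO a b⟩
  let x' : O Fr.q := ⟨Fr.φ x, by rw [hx, map_mul]; exact mul_mem (hUO _ _) (hUO _ _)⟩
  refine ⟨g * U c d, ⟨⁅g', x'⁆, Subgroup.commutator_mem_commutator (Subgroup.mem_top g') (Subgroup.mem_top x'), ?_⟩,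
    rfl⟩
  show Fr.φ g * Fr.φ x * (Fr.φ g)⁻¹ * (Fr.φ x)⁻¹ = Fr.φ (g * U c d)
  rw [← hconj, ← map_inv, ← map_inv, ← map_mul, ← map_mul, ← map_mul, hg, hUU, mul_assoc (U a b) x, mul_assoc]

include ht in
/-- The stabiliser is maximal, given rigidity. -/
theorem maximal [Fintype F] (hk : 2 ≤ k) (hkt : t = 1 → 4 ≤ k) (hrig : Rigid Fr.J (t + 1)) :
    Cfsg.Geo.IsMaximalIn (omega Fr.q)
      ((Cfsg.Geo.tensorWreathStandard k (t + 1) F).map Fr.φ.toMonoidHom ⊓ omega Fr.q) := by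
  classical
  haveI : NeZero k := ⟨by omega⟩
  have hmono : ∀ x : GL (Idx k (t + 1)) F, IsMonomial x → Fr.φ x ∈ omega Fr.q →
      Fr.φ x ∈ (Cfsg.Geo.tensorWreathStandard k (t + 1) F).map Fr.φ.toMonoidHom ⊓ omega Fr.q :=
    fun x hx hxo => ⟨⟨x, mem_standard hx, rfl⟩, hxo⟩
  refine ⟨lt_of_le_not_ge inf_le_right fun h => ?_, fun M hHM hMS => ?_⟩
  · obtain ⟨x, hxo, hxm⟩ := Fr.exists_not_monomial ht hk hkt
    obtain ⟨y, hy, hyx⟩ := (h hxo).1
    exact hxm (isMonomial_of_mem (Fr.φ.injective hyx ▸ hy))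
  let M₀ := M.comap Fr.φ.toMonoidHom
  have hroot : ∀ (i : Fin (t + 1)) (v : Fin k → F) (c : F), In M₀ (1 + c • slot i (Xm Fr.J v)) := fun i v c => by
    obtain ⟨x, hx, hxe⟩ := Fr.root_mem ht i (by
      rw [Fintype.card_prod, Fintype.card_fin, Fintype.card_fin]; exact (Fr.card_le hk hkt ht).1) v c
    refine ⟨x, hHM (hmono x ?_ hx), hxe⟩
    refine isMonomial_slot (A := 1 + c • Xm Fr.J v) (fun h0 => ?_) i (by rw [hxe, map_add, map_smul, slot_one])
    have h := congrArg Matrix.det (root_mul Fr.alt v c)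
    rw [det_mul, h0, zero_mul, det_one] at h
    exact zero_ne_one h
  have hset : Setting Fr.J M₀ := ⟨fun g hg => Fr.iso_of_mem_omega (hMS hg), hroot⟩
  have hperm : ∀ a b c d : Fin (t + 1), a ≠ b → c ≠ d →
      In M₀ (permM (Equiv.swap a b) * permM (Equiv.swap c d)) := fun a b c d hab hcd => by
    obtain ⟨x, hx, hxe⟩ := Fr.double_mem (a := a) (b := b) (c := c) (d := d) hab hcd
    refine ⟨x, hHM (hmono x ?_ hx), hxe⟩
    refine ⟨(Equiv.swap a b).trans (Equiv.swap c d), fun _ => 1, fun xs => ?_⟩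
    rw [hxe, ← Matrix.mulVec_mulVec, permM_mulVec, permM_mulVec]
    simp
  by_cases hs : Scal Fr.J M₀
  · refine Or.inl (le_antisymm (fun y hy => ⟨?_, hMS hy⟩) hHM)
    have hyM : Fr.φ.symm y ∈ M₀ := by simpa [M₀] using hy
    exact ⟨Fr.φ.symm y, mem_standard (hrig M₀ hset hs _ (hset.iso _ hyM).sim (Conj.of_mem hset hyM)),
      Fr.φ.apply_symm_apply y⟩
  refine Or.inr (le_antisymm hMS ?_)
  have hW : Whole Fr.J M₀ := ⟨Fr.alt, Fr.two, hset⟩
  unfold Scal at hs
  push Not at hs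
  obtain ⟨i, v, hv, Y, hY, hin, hns⟩ := hs
  rcases Nat.lt_or_ge t 3 with h | h
  · obtain rfl : t = 1 := by obtain ⟨a, rfl⟩ := ht; omega
    exact Fr.top_two (hkt rfl) hset (hW.coef_of_one hv hY hin) hns
  · obtain ⟨p, hp⟩ := hW.pat_big hperm (by omega) ht.add_one (hW.coef_of_one hv hY hin) hns
    exact Fr.top_of_pat ht p hk h hMS hset hperm hp

end Frame

end CfsgLib.TensorSympEven
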