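import Cfsg.Agent.Lib.TensorSympEven.Maximal
import Cfsg.Agent.Lib.TensorSympWreath.Five
import Cfsg.Agent.Lib.TensorSympWreath.CoreThree

/-!
An even tensor power of a symplectic form in odd characteristic, in given coordinates.
-/

set_option autoImplicit false
set_option linter.unusedSectionVars false
set_option linter.unusedSimpArgs false

namespace CfsgLib.TensorSympEven

open Matrix QuadraticMap
open CfsgLib.Maximal.TensorPower
open CfsgLib.TensorWreathMax (Idx)
open CfsgLib.TensorSympWreath
open CfsgLib.Maximal.TensorTools (quadOf coord)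

attribute [-simp] Matrix.coe_units_inv

/-- Maximality for odd characteristic. -/
theorem maximal_odd {F : Type*} [Field F] [Fintype F] {n : ℕ} (hn : 13 ≤ n) (hodd : Odd (Fintype.card F))
    {Q : (Fin n → F) → F} (hQ : Cfsg.Geo.IsNondegenerateQuadraticForm Q) {k t : ℕ} (ht : 2 ≤ t) (hte : Even t)
    (hex : ¬ (Fintype.card F = 3 ∧ k = 2)) (e : Fin n ≃ (Fin t → Fin k)) (P : GL (Fin n) F)
    {f₁ : (Fin k → F) → (Fin k → F) → F} (hf₁ : Cfsg.Geo.IsSymplecticForm f₁)
    (hT : Cfsg.Geo.IsTensorPowerFormStructure id (QuadraticMap.polar Q) f₁ e P) :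
    Cfsg.Geo.IsMaximalIn (Cfsg.Geo.omegaGL Q)
      (Cfsg.Geo.tensorWreathSubgroup k t e P ⊓ Cfsg.Geo.omegaGL Q) := by
  classical
  obtain ⟨s, rfl⟩ : ∃ s, t = s + 1 := ⟨t - 1, by omega⟩
  have hs : Odd s := by
    obtain ⟨a, ha⟩ := hte
    exact ⟨a - 1, by omega⟩
  have hcard := Fintype.card_congr e
  rw [Fintype.card_fin, Fintype.card_fun, Fintype.card_fin, Fintype.card_fin] at hcard
  have hk : 2 ≤ k := two_le_of_symplectic hf₁ fun h => by rw [h, zero_pow (by omega)] at hcard; omega
  set J := Cfsg.Geo.gramMatrix f₁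
  have hfm : ∀ u v, fm J u v = f₁ u v := fun u v => by
    rw [fm, Matrix.toBilin'_apply]
    exact (CfsgLib.Maximal.TensorTools.bilinear_expand hf₁.bilinear u v).symm
  have hJ : Alt J := ⟨fun v => by rw [← fm_apply, hfm, hf₁.alternating], fun h0 => by
    obtain ⟨v, hv, hvJ⟩ := Matrix.exists_vecMul_eq_zero_iff.2 h0
    obtain ⟨x, hx⟩ := (hf₁.nondegenerate v hv).2
    exact hx (by rw [← hfm, fm_apply, hvJ, zero_dotProduct])⟩
  have h2 := two_ne_zero_of_odd hodd
  obtain ⟨c, hc, hform⟩ := hT
  let Fr : Frame F n k (s + 1) :=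
    { J := J
      alt := hJ
      two := h2
      q := quadOf hQ
      c := c
      c_ne := hc
      cd := coord e P
      φ := (Cfsg.Geo.glReindex e.symm).trans (MulAut.conj P)
      act := CfsgLib.Maximal.TensorTools.conj_reindex_mulVec e P
      form := fun x y => by
        show QuadraticMap.polar Q _ _ = _
        rw [CfsgLib.Maximal.TensorTools.coord_apply, CfsgLib.Maximal.TensorTools.coord_apply, hform]
        congr 1
        simp only [dotProduct, Matrix.mulVec, Finset.mul_sum, Jt, pm, id_eq, J]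
        exact Finset.sum_congr rfl fun a _ => Finset.sum_congr rfl fun b _ => by ring }
  have hkt : s = 1 → 4 ≤ k := fun h => by
    subst h
    by_contra hk4
    have := Nat.pow_le_pow_left (show k ≤ 3 by omega) (1 + 1)
    omega
  have hR := radAll hJ h2
  have hrig : Rigid J (s + 1) := by
    by_cases hq : 4 ≤ Fintype.card F
    · obtain ⟨a₀, ha₀, ha₀2⟩ := exists_sq_ne_one hq
      exact rigid hJ hk h2 (by rw [Nat.card_eq_fintype_card]; omega) ha₀ ha₀2 hR _ (by omega)
    · have h3 : Fintype.card F = 3 := by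
        have := Fintype.one_lt_card (α := F)
        rw [Nat.odd_iff] at hodd
        omega
      have hk3 : 3 ≤ k := by
        rcases eq_or_ne k 2 with h | h
        · exact absurd ⟨h3, h⟩ hex
        · omega
      exact rigid_three hJ hk3 h2 (by rw [Nat.card_eq_fintype_card, h3]) hR _ (by omega)
  have h := Fr.maximal hs hk hkt hrig
  have hH : Cfsg.Geo.tensorWreathSubgroup k (s + 1) e P =
      (Cfsg.Geo.tensorWreathStandard k (s + 1) F).map Fr.φ.toMonoidHom := by
    rw [Cfsg.Geo.tensorWreathSubgroup, Subgroup.map_map]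
    rfl
  have hΩ : Cfsg.Geo.omegaGL Q = omega Fr.q := rfl
  rw [hH, hΩ]
  exact h

end CfsgLib.TensorSympEven
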