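import Cfsg.Agent.Lib.TensorSympEven.Frame
import Cfsg.Agent.Lib.TensorSympEven.Grow
import Cfsg.Agent.Lib.TensorSympPair.Square

/-!
A non-scalar coefficient gives the whole of `Ω`.
-/

set_option autoImplicit false
set_option linter.unusedSectionVars false
set_option linter.unusedSimpArgs false
set_option linter.style.haveILetI false

namespace CfsgLib.TensorSympEven

open Matrix QuadraticMap
open scoped Kronecker
open CfsgLib.Maximal.TensorPower
open CfsgLib.TensorWreathMax (Idx In split rx tvec permM Ms in_ms_rx Gam rightHom rx_pm)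
open CfsgLib.TensorSympWreath
open CfsgLib.GeomClasses
open CfsgLib.GeomClasses.TensorMax (V2 M2)
open CfsgLib.Orth (O app eich app_eich)
open CfsgLib.TensorSympPair (Over Extra)

attribute [-simp] Matrix.coe_units_inv

variable {F : Type*} [Field F] {n k t : ℕ}

namespace Frame

variable (Fr : Frame F n k (t + 1)) (ht : Odd t) (p : Fin (t + 1)) {M : Subgroup (GL (Fin n) F)}

include ht in
theorem iso_omega (hM : M ≤ omega Fr.q) {g : GL (Fin k × Fin (k ^ t)) F} (hg : g ∈ M.comap (Fr.Φ p).toMonoidHom)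
    (x : V2 F k (k ^ t)) : (Fr.data ht p).q ((g : M2 F k (k ^ t)) *ᵥ x) = (Fr.data ht p).q x := by
  have h := hM hg
  rw [← Fr.omega_eq ht p] at h
  obtain ⟨g', hg', he⟩ := h
  have e : g' = g := (Fr.Φ p).injective he
  subst e
  obtain ⟨g'', -, rfl⟩ := hg'
  exact CfsgLib.Orth.Q_app g'' x

include ht in
theorem omega_le_of (h : (Fr.data ht p).omega ≤ M.comap (Fr.Φ p).toMonoidHom) : omega Fr.q ≤ M := by
  rw [← Fr.omega_eq ht p]
  exact Subgroup.map_le_iff_le_comap.2 h

theorem mem_comap_Φ {g : GL (Fin k × Fin (k ^ t)) F} {x : GL (Idx k (t + 1)) F}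
    (hx : x ∈ M.comap Fr.φ.toMonoidHom) (he : Fr.Φ p g = Fr.φ x) : g ∈ M.comap (Fr.Φ p).toMonoidHom := by
  show Fr.Φ p g ∈ M
  rw [he]
  exact hx

include ht in
/-- The pattern on all slots but one gives the symplectic group of the rest. -/
theorem right_mem [Fintype F] [NeZero k] (hset : Setting Fr.J (M.comap Fr.φ.toMonoidHom))
    (hpat : Pat Fr.J (M.comap Fr.φ.toMonoidHom) (Finset.univ.erase p)) (u : Idx k t → F) (r : F) :
    ∃ x ∈ M.comap Fr.φ.toMonoidHom, rx p (x : Matrix (Idx k (t + 1)) (Idx k (t + 1)) F) =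
      (1 : Matrix (Fin k) (Fin k) F) ⊗ₖ (formTv (fun x y : Idx k t → F => x ⬝ᵥ Jt Fr.J t *ᵥ y) u r :
        Matrix (Idx k t) (Idx k t) F) := by
  classical
  set f₀ := fun x y : Idx k t → F => x ⬝ᵥ Jt Fr.J t *ᵥ y
  have hf₀ : Cfsg.Geo.IsSymplecticForm f₀ := fm_power Fr.alt Fr.two ht
  set M₀ := M.comap Fr.φ.toMonoidHom
  have hcen : ∀ xs : Fin t → Fin k → F, tp xs ∈ Symp.centres f₀ (Gam p M₀) := fun xs r => by
    have h := in_ms_rx (i := p).2 (hpat (p.insertNth 0 xs) (-r))
    have e : rx p (pat (Finset.univ.erase p) fun l => Xm Fr.J ((p.insertNth 0 xs : Fin (t + 1) → Fin k → F) l)) =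
        (1 : Matrix (Fin k) (Fin k) F) ⊗ₖ pat Finset.univ (fun l => Xm Fr.J (xs l)) := by
      rw [pat, pat, rx_pm]
      congr 2
      · simp [ops]
      · funext l
        simp [ops, Fin.removeNth, Fin.succAbove_ne]
    rw [map_add, map_one, map_smul, e, ← kronecker_smul, ← one_kronecker_one, ← kronecker_add] at h
    obtain ⟨z, hz, hze⟩ := in_gam h
    rw [pat_univ_eq] at hze
    convert hz
    refine GeomClasses.gl_ext fun x => ?_
    rw [Symp.formTv_mulVec hf₀, hze, add_mulVec, one_mulVec, smul_mulVec, vecMulVec_mulVec, op_smul_eq_smul, smul_smul,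
      ← dotProduct_mulVec, hf₀.skew x]
    show x + (r * -f₀ (tp xs) x) • tp xs = x + (-r * f₀ (tp xs) x) • tp xs
    rw [mul_neg, neg_mul]
  have hpure : ∀ a : Idx k t, ∃ α : Fin t → Fin k → F, (∀ l, α l ≠ 0) ∧
      ∀ xs : Fin t → Fin k → F, f₀ (Pi.single a 1) (tp xs) = ∏ l, α l ⬝ᵥ xs l := fun a =>
    ⟨fun l => Pi.single (a l) 1 ᵥ* Fr.J, fun l => Fr.alt.vecMul_ne_zero (by simp), fun xs => by
      show Pi.single a 1 ⬝ᵥ Jt Fr.J t *ᵥ tp xs = _
      rw [← tp_single (F := F) a, Jt, pm_mulVec, CfsgLib.TensorWreathMax.dot_tp]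
      exact Finset.prod_congr rfl fun l _ => dotProduct_mulVec _ _ _⟩
  have hu : formTv f₀ u r ∈ Gam p M₀ := centres_all Fr.two hf₀ hcen hpure u r
  set z := rightHom k (Idx k t) (formTv f₀ u r) with hz
  refine ⟨Cfsg.Geo.glReindex (F := F) (split p).symm z, hu, ?_⟩
  ext a b
  simp [hz, rightHom, Cfsg.Geo.glReindex]

include ht in
/-- The factors' groups put an overgroup into the setting of two factors. -/
theorem overSplit [Fintype F] [NeZero k] (hk : 2 ≤ k) (hb : k + 2 ≤ k ^ t) (hb5 : 5 ≤ k ^ t) (hM : M ≤ omega Fr.q)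
    (hset : Setting Fr.J (M.comap Fr.φ.toMonoidHom))
    (hpat : Pat Fr.J (M.comap Fr.φ.toMonoidHom) (Finset.univ.erase p)) :
    Over (Fr.data ht p) (M.comap (Fr.Φ p).toMonoidHom) := by
  refine ⟨hk, hb, hb5, fun g hg x => Fr.iso_omega ht p hM hg x, fun s c => ?_, fun u c => ?_⟩
  · obtain ⟨x, hx, hxr⟩ := Fr.right_mem ht p hset hpat (rst s) (-c)
    refine Fr.mem_comap_Φ p hx (Fr.Φ_eq p fun w v => ?_)
    rw [TensorMax.el_mulVec (TensorMax.ten_sq _ (by
        rw [smul_dotProduct, CfsgLib.TensorSympPair.Data.gv_dot, CfsgLib.TensorSympPair.Data.γ_self, smul_zero])),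
      TensorMax.ten_apply, LinearMap.id_apply, TensorMax.C_pl, smul_dotProduct, CfsgLib.TensorSympPair.Data.gv_dot,
      mulVec_Tv p hxr, LinearEquiv.symm_apply_apply, one_mulVec, Symp.formTv_mulVec (fm_power Fr.alt Fr.two ht)]
    set γws := rst w ⬝ᵥ Jt Fr.J t *ᵥ rst s with hγ
    have e : (rst w + (-c * γws) • rst s) ∘ finFunctionFinEquiv.symm = w + (c • (Fr.data ht p).γ s w) • s := by
      rw [(Fr.data ht p).γ_flip w s, Fr.γ_eq ht p w s]
      funext a
      simp [rst, hγ]
    rw [e, map_smul, CfsgLib.TensorSympPair.pl_add_left, CfsgLib.TensorSympPair.pl_smul_left]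
  · obtain ⟨x, hx, hxe⟩ := hset.root p u (c * Fr.c)
    exact Fr.mem_comap_Φ p hx (Fr.Φ_left ht p u c hxe)

include ht in
/-- All slots but one and a permutation moving that slot give the whole group. -/
theorem top_of_pat [Fintype F] [NeZero k] (hk : 2 ≤ k) (ht3 : 3 ≤ t) (hM : M ≤ omega Fr.q)
    (hset : Setting Fr.J (M.comap Fr.φ.toMonoidHom))
    (hperm : ∀ a b c d : Fin (t + 1), a ≠ b → c ≠ d →
      In (M.comap Fr.φ.toMonoidHom) (permM (Equiv.swap a b) * permM (Equiv.swap c d)))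
    (hpat : Pat Fr.J (M.comap Fr.φ.toMonoidHom) (Finset.univ.erase p)) : omega Fr.q ≤ M := by
  classical
  have h3 : k ^ 3 ≤ k ^ t := Nat.pow_le_pow_right (by omega) ht3
  have h22 : 2 * (2 * k) ≤ k ^ 3 := by
    rw [show k ^ 3 = k * (k * k) by ring]
    exact Nat.mul_le_mul hk (Nat.mul_le_mul hk le_rfl)
  have S := Fr.overSplit ht p hk (by omega) (by omega) hM hset hpat
  have hex : ¬ (k = 2 ∧ ∀ c : F, c = 0 ∨ c = 1) := fun h => by
    rcases h.2 2 with h2 | h2
    · exact Fr.two h2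
    · exact one_ne_zero (show (1 : F) = 0 by linear_combination h2)
  by_cases hx : Extra (Fr.data ht p) (M.comap (Fr.Φ p).toMonoidHom)
  · exact Fr.omega_le_of ht p (Subgroup.map_le_iff_le_comap.2 (S.commutator_le_inO hex hx))
  exfalso
  -- a permutation moving the slot
  obtain ⟨a, hap⟩ : ∃ a : Fin (t + 1), a ≠ p := by
    haveI : Nontrivial (Fin (t + 1)) := Fin.nontrivial_iff_two_le.2 (by omega)
    exact exists_ne p
  obtain ⟨b, hb⟩ : ∃ b, b ∉ ({p, a} : Finset (Fin (t + 1))) := by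
    refine (Finset.exists_mem_notMem_of_card_lt_card (s := ({p, a} : Finset (Fin (t + 1)))) (t := Finset.univ) ?_).imp
      fun _ h => h.2
    rw [Finset.card_univ, Fintype.card_fin]
    exact lt_of_le_of_lt Finset.card_le_two (by omega)
  simp only [Finset.mem_insert, Finset.mem_singleton, not_or] at hb
  obtain ⟨x, hx', hxe⟩ := hperm p a a b (Ne.symm hap) (Ne.symm hb.2)
  set g := Cfsg.Geo.glReindex (F := F) (spl k p) x with hg
  have hge : Fr.Φ p g = Fr.φ x := by
    show Fr.φ (Cfsg.Geo.glReindex (spl k p).symm g) = _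
    congr 1
    rw [hg]
    ext i j
    simp [Cfsg.Geo.glReindex]
  obtain ⟨E, G, hG, hEG⟩ := S.pure_all hx hex (Fr.mem_comap_Φ p hx' hge)
  set v₀ : Fin k → F := Pi.single ⟨0, by omega⟩ 1
  have hv₀ : v₀ ≠ 0 := by simp [v₀]
  obtain ⟨θ, hθ, hθv⟩ := TensorSympWreath.exists_perp hk v₀
  set w : Fin (k ^ t) → F := tp (fun _ : Fin t => v₀) ∘ finFunctionFinEquiv.symm
  have hw : w ≠ 0 := fun h0 => by
    obtain ⟨θ', hθ'⟩ := CfsgLib.TensorWreathMax.exists_dot_eq_one hv₀
    have h1 : tp (fun _ : Fin t => v₀) = 0 := funext fun y => by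
      have := congrFun h0 (finFunctionFinEquiv y)
      simpa [w] using this
    have h2 := congrArg (tp (fun _ : Fin t => θ') ⬝ᵥ ·) h1
    simp [CfsgLib.TensorWreathMax.dot_tp, hθ'] at h2
  have hGw : rst (G w) ≠ 0 := fun h0 => hw (hG (by
    rw [map_zero]
    funext y
    simpa [rst] using congrFun h0 (finFunctionFinEquiv.symm y)))
  have hθE : ∀ u, θ ⬝ᵥ E u = 0 := fun u => by
    have h1 : (x : Matrix (Idx k (t + 1)) (Idx k (t + 1)) F) *ᵥ Tv p (TensorMax.pl w u) =
        Tv p (TensorMax.pl (G w) (E u)) := by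
      refine Fr.cd.injective ?_
      rw [← Fr.act, ← hge, Fr.act_Φ, hEG]
    have h2 : Tv p (TensorMax.pl w u) = tp (p.insertNth u fun _ : Fin t => v₀) := by
      refine (tvec p).injective ?_
      rw [tvec_Tv, CfsgLib.TensorWreathMax.tvec_tp, Fin.insertNth_apply_same, Fin.removeNth_insertNth]
      congr 1
      funext y
      simp [rst, w]
    rw [h2, hxe, ← Matrix.mulVec_mulVec, CfsgLib.TensorWreathMax.permM_mulVec,
      CfsgLib.TensorWreathMax.permM_mulVec] at h1
    have h3 := congrArg (tvec p) h1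
    rw [tvec_Tv, CfsgLib.TensorWreathMax.tvec_tp] at h3
    have h4 := congrArg (CfsgLib.TensorWreathMax.ct θ) h3
    rw [CfsgLib.TensorWreathMax.ct_pl, CfsgLib.TensorWreathMax.ct_pl] at h4
    have hval : Equiv.swap a b (Equiv.swap p a p) = b := by
      rw [Equiv.swap_apply_left, Equiv.swap_apply_left]
    rw [hval, show (p.insertNth u (fun _ : Fin t => v₀) : Fin (t + 1) → Fin k → F) b = v₀ by
      obtain ⟨l, rfl⟩ := Fin.exists_succAbove_eq hb.1
      rw [Fin.insertNth_apply_succAbove], hθv, zero_smul] at h4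
    exact (smul_eq_zero.1 h4.symm).resolve_right hGw
  exact hθ (funext fun i => by
    have := hθE (E.symm (Pi.single i 1))
    rwa [E.apply_symm_apply, dotProduct_single, mul_one] at this)

end Frame

/-- For two slots a non-scalar coefficient gives every root element. -/
theorem Frame.top_two [Fintype F] [NeZero k] (Fr : Frame F n k (1 + 1)) (hk : 4 ≤ k) {M : Subgroup (GL (Fin n) F)}
    (hset : Setting Fr.J (M.comap Fr.φ.toMonoidHom)) {i : Fin (1 + 1)} {Y₀ : Matrix (Idx k (1 + 1)) (Idx k (1 + 1)) F}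
    (hY₀ : Coef Fr.J (M.comap Fr.φ.toMonoidHom) i Y₀) (hns : ∀ c : F, Y₀ ≠ c • 1) : omega Fr.q ≤ M := by
  classical
  set M₀ := M.comap Fr.φ.toMonoidHom
  have hW : Whole Fr.J M₀ := ⟨Fr.alt, Fr.two, hset⟩
  obtain ⟨S, os, ss, hiS, hSne, hk', hY⟩ := hW.exists_pat hY₀ hns
  set j := i.succAbove 0
  have hSj : S = {j} := by
    refine Finset.eq_singleton_iff_nonempty_unique_mem.2 ⟨hSne, fun l hl => ?_⟩
    obtain ⟨l', rfl⟩ := Fin.exists_succAbove_eq (show l ≠ i from fun h => hiS (h ▸ hl))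
    rw [Subsingleton.elim l' 0]
  subst hSj
  have hkj : Kind Fr.J 1 (os j) := by
    obtain ⟨h, -⟩ := hk' j (Finset.mem_singleton_self j)
    rcases h.2.2.1 with hs | hs
    · rwa [hs] at h
    · refine absurd (hW.even_of_skew hiS (fun l hl => ?_) hY) (by simp)
      rw [Finset.mem_singleton] at hl
      subst hl
      rwa [hs] at h
  have hcoef : ∀ c d : Fin k → F, c ≠ 0 → (∀ s : F, d ≠ s • c) → fm Fr.J c d = 0 →
      Coef Fr.J M₀ i (slot j (Am Fr.J c d)) := fun c d hc hd hcd => by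
    have h := hW.coef_am hiS (Finset.mem_singleton_self j) hkj hY hc hd hcd
    rwa [pat_singleton, Function.update_self] at h
  have hk1 : 4 ≤ k ^ 1 := by rwa [pow_one]
  refine Fr.omega_le_of odd_one i ?_
  refine Subgroup.map_le_iff_le_comap.2 ?_
  refine CfsgLib.TensorSympPair.Data.commutator_le_of_roots (Fr.data odd_one i) hk hk1 fun z w u hz hw hzw => ?_
  set D := Fr.data odd_one i
  let z' : Fin k → F := fun a => z (finFunctionFinEquiv (fun _ => a))
  let w' : Fin k → F := fun a => w (finFunctionFinEquiv (fun _ => a))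
  have hone : ∀ s : Fin (k ^ 1) → F, rst s = tp (fun _ : Fin 1 => fun a => s (finFunctionFinEquiv (fun _ => a))) :=
    fun s => funext fun a => by
      simp only [rst, tp, Function.comp_apply, Fin.prod_univ_one]
      congr 2
      funext x
      rw [Subsingleton.elim x 0]
  have hback : ∀ s : Fin (k ^ 1) → F, ∀ a, s a =
      (fun b : Fin k => s (finFunctionFinEquiv (fun _ : Fin 1 => b))) (finFunctionFinEquiv.symm a 0) := fun s a => by
    show s a = s (finFunctionFinEquiv fun _ => finFunctionFinEquiv.symm a 0)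
    conv_lhs => rw [← Equiv.apply_symm_apply finFunctionFinEquiv a]
    congr 2
    funext x
    rw [Subsingleton.elim x 0]
  have hγ : ∀ s s' : Fin (k ^ 1) → F, D.γ s s' = fm Fr.J (fun a => s (finFunctionFinEquiv (fun _ => a)))
      (fun a => s' (finFunctionFinEquiv (fun _ => a))) := fun s s' => by
    rw [Fr.γ_eq odd_one i, hone s, hone s', Jt, pm_mulVec, CfsgLib.TensorWreathMax.dot_tp, Fin.prod_univ_one,
      fm_apply, dotProduct_mulVec]
  have hz' : z' ≠ 0 := fun h => hz (funext fun a => by rw [hback z a]; exact congrFun h _)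
  have hw' : ∀ s : F, w' ≠ s • z' := fun s h => hw s (funext fun a => by
    rw [Pi.smul_apply, hback w a, hback z a]; exact congrFun h _)
  obtain ⟨x, hx, hxe⟩ := (hW.coef_smul (hcoef z' w' hz' hw' (by rw [← hγ]; exact hzw)) (-Fr.c)).2 u
  show ((eich D.q (TensorMax.pl w u) (TensorMax.pl z u) : O D.q) : GL (Fin k × Fin (k ^ 1)) F) ∈
    M.comap (Fr.Φ i).toMonoidHom
  refine Fr.mem_comap_Φ i hx (Fr.Φ_eq i fun y v => ?_)
  have hpol : polar D.q (TensorMax.pl w u) (TensorMax.pl z u) = 0 := by rw [D.polar_pl, D.β_self, zero_mul]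
  rw [← CfsgLib.Orth.app_apply, app_eich (D.q_pl u w) hpol, D.q_pl, D.polar_pl, D.polar_pl, β_eq, hxe, add_mulVec,
    one_mulVec, map_add, LinearEquiv.symm_apply_apply]
  have hrx : rx i (slot i (Xm Fr.J u) * -Fr.c • slot j (Am Fr.J z' w')) =
      (-Fr.c • Xm Fr.J u) ⊗ₖ slot (0 : Fin 1) (Am Fr.J z' w') := by
    rw [map_mul, map_smul, CfsgLib.TensorWreathMax.rx_slot_same, CfsgLib.TensorWreathMax.rx_slot_succAbove,
      mul_smul_comm, ← mul_kronecker_mul, mul_one, one_mul, smul_kronecker]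
  rw [mulVec_Tv i hrx, LinearEquiv.symm_apply_apply, smul_mulVec, Xm_mulVec, map_smul, map_smul]
  have hB : (slot (0 : Fin 1) (Am Fr.J z' w') *ᵥ rst y) ∘ finFunctionFinEquiv.symm =
      D.γ z y • w - D.γ w y • z := by
    rw [hone y, slot_mulVec, hγ, hγ]
    funext a
    simp only [tp, Function.comp_apply, Fin.prod_univ_one, Function.update_self, Am_mulVec, Pi.sub_apply,
      Pi.smul_apply, z', w']
    conv_rhs => rw [hback z a, hback w a]
  rw [hB, D.γ_flip z y, D.γ_flip w y, Fr.alt.flip u v, CfsgLib.TensorSympPair.pl_sub_left,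
    CfsgLib.TensorSympPair.pl_smul_left, CfsgLib.TensorSympPair.pl_smul_left]
  module

end CfsgLib.TensorSympEven
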